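import Cfsg.Agent.A9.Setup
import Cfsg.Agent.A9.Num
import Cfsg.Agent.S3702

/-!
The case in which `H` contains the centralizers of all elements of `J`.
-/

set_option autoImplicit false
set_option synthInstance.maxSize 100000

namespace Cfsg.Agent.A9

open Subgroup Cfsg Cfsg.Agent.PLocal.Amb Cfsg.Agent.Loc3 Cfsg.Agent.Char Cfsg.Agent.Char.Euclid

noncomputable section
abbrev y1 : H9 := el H9 0x021687435
abbrev y2 : H9 := el H9 0x435210768

abbrev Mp (y v : H9) : Prop := v ∈ T9 ∧ v * y * v⁻¹ ∈ [y, y ^ 4, y ^ 7]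

def M1 : Subgroup H9 where
  carrier := {v | Mp y1 v}
  mul_mem' := fun {a b} ha hb => (show ∀ a, Mp y1 a → ∀ b, Mp y1 b → Mp y1 (a * b) from pd!) a ha b hb
  one_mem' := (show Mp y1 1 from pd!)
  inv_mem' := fun {a} => (show ∀ a, Mp y1 a → Mp y1 a⁻¹ from pd!) a

def M2 : Subgroup H9 where
  carrier := {v | Mp y2 v}
  mul_mem' := fun {a b} ha hb => (show ∀ a, Mp y2 a → ∀ b, Mp y2 b → Mp y2 (a * b) from pd!) a ha b hb
  one_mem' := (show Mp y2 1 from pd!)
  inv_mem' := fun {a} => (show ∀ a, Mp y2 a → Mp y2 a⁻¹ from pd!) a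
end

instance bdM1 (v : H9) {b : Bool} [h : BD (Mp y1 v) b] : BD (v ∈ M1) b := h
instance bdM2 (v : H9) {b : Bool} [h : BD (Mp y2 v) b] : BD (v ∈ M2) b := h

abbrev Cl (k : ℕ) (v : H9) : Prop := v ^ 3 = 1 ∧ v.1.support.card = k

theorem cls {v : H9} (h : v ^ 3 = 1) : (v = 1 ∧ v.1.support.card = 0) ∨
    (IsConj a1 v ∧ v.1.support.card = 3) ∨ (IsConj b0 v ∧ v.1.support.card = 6) ∨
    ((IsConj c0 v ∨ IsConj x0 v) ∧ v.1.support.card = 9) := by
  have k : ∀ x : H9, IsConj x v → v.1.support.card = x.1.support.card := fun x e => by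
    obtain ⟨g, rfl⟩ := isConj_iff.1 e
    exact Equiv.Perm.card_support_conj
  rcases cube_H v h with rfl | e | e | e | e
  exacts [Or.inl ⟨rfl, pd!⟩, Or.inr (Or.inl ⟨e, (k _ e).trans pd!⟩),
    Or.inr (Or.inr (Or.inl ⟨e, (k _ e).trans pd!⟩)),
    Or.inr (Or.inr (Or.inr ⟨Or.inl e, (k _ e).trans pd!⟩)),
    Or.inr (Or.inr (Or.inr ⟨Or.inr e, (k _ e).trans pd!⟩))]

theorem nine_T : ∀ v : H9, v ∈ T9 → v ^ 3 ≠ 1 →
    (v ∈ M1 ∧ IsConj y1 v) ∨ (v ∉ M1 ∧ IsConj y2 v) := pd!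

theorem clos_eq : closure ({Equiv.swap (0 : Fin 9) 1 * Equiv.swap 1 2,
    Equiv.swap (0 : Fin 9) 3 * Equiv.swap 3 6 * (Equiv.swap (1 : Fin 9) 4 * Equiv.swap 4 7) *
      (Equiv.swap (2 : Fin 9) 5 * Equiv.swap 5 8), Equiv.swap (0 : Fin 9) 1 * Equiv.swap 3 4,
    Equiv.swap (0 : Fin 9) 3 * Equiv.swap 1 4 * Equiv.swap 2 5 * Equiv.swap 6 7} : Set S9) = H9 :=
  eq_of_le_of_card_ge ((closure_le _).2 (by rintro _ (rfl | rfl | rfl | rfl) <;> exact pd!)) (by
    rw [Cube.split0.card, card_H9]; simp [Fintype.card_perm, Nat.factorial])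

open Classical in
theorem sum_ite_card (U : Subgroup H9) [Fintype U] (p : H9 → Prop) (c : ℤ) :
    ∑ v : U, (if p v then c else 0) = Nat.card {v // v ∈ U ∧ p v} * c := by
  rw [← Finset.sum_filter, Finset.sum_const, nsmul_eq_mul, ← Fintype.card_subtype,
    ← Nat.card_eq_fintype_card, Nat.card_congr (Equiv.subtypeSubtypeEquivSubtypeInter _ p)]

universe u

variable {G : Type u} [Group G] [Finite G]

namespace Base
variable {φ : H9 →* G} (h : Base φ) (ca : ∀ g, Commute g (φ a1) → g ∈ φ.range)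
include h

local notation "𝐉" => Subgroup.map φ J9

omit [Finite G] h in
theorem cent_conj {x y : H9} (hx : ∀ g, Commute g (φ x) → g ∈ φ.range) (e : IsConj x y) {g : G}
    (c : Commute g (φ y)) : g ∈ φ.range := by
  obtain ⟨k, rfl⟩ := isConj_iff.1 e
  have := hx ((φ k)⁻¹ * g * (φ k)⁻¹⁻¹) (by simpa [mul_assoc] using Commute.cj c (φ k)⁻¹)
  simpa [mul_assoc] using mul_mem (mul_mem (rng φ k) this) (inv_mem (rng φ k))

omit [Finite G] in
theorem card_cent {x : H9} (hx : ∀ g, Commute g (φ x) → g ∈ φ.range) {n : ℕ}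
    (e : Nat.card {v // v ∈ centralizer {x}} = n) : Nat.card (centralizer {φ x}) = n := by
  rw [← e, ← h.card_map]
  congr 2
  ext g
  refine ⟨fun c => ?_, ?_⟩
  · obtain ⟨k, rfl⟩ := hx g (mem_cent.1 c)
    exact ⟨k, mem_cent.2 (hcomm h.inj (mem_cent.1 c)), rfl⟩
  · rintro ⟨k, c, rfl⟩
    exact mem_cent.2 ((mem_cent.1 c).map φ)

include ca

theorem cJ {j : H9} (hj : j ∈ J9) (j1 : j ≠ 1) {g : G} (c : Commute g (φ j)) : g ∈ φ.range := by
  rcases cube_H j (J9_cube j hj) with e | e | e | e | e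
  exacts [absurd e j1, cent_conj ca e c, cent_conj (fun _ => h.cb) e c,
    cent_conj (fun _ => h.cc) e c, by
      obtain ⟨k, hk⟩ := isConj_iff.1 e.symm
      exact absurd (hk ▸ J9_normal.conj_mem j hj k) pd!]

theorem top_of (hx : ¬ IsConj (φ c0) (φ x0)) : φ.range = ⊤ := by
  obtain ⟨α, κ, sp⟩ : ∃ α κ, Split α κ Cube.act φ.range := ⟨_, _, Cube.split0.transport
    ((φ.ofInjective h.inj).symm.trans (MulEquiv.subgroupCongr clos_eq.symm))⟩
  have r : α.range = 𝐉 := h.eq_J (by rintro _ ⟨v, rfl⟩; exact sp.φ_mem v)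
    (by rw [← Nat.card_congr (α.ofInjective sp.inj).toEquiv]; simp)
    (by rintro _ ⟨v, rfl⟩; exact S3702.Hyp.pow3 v)
    (by rintro _ ⟨v, rfl⟩ _ ⟨w, rfl⟩; exact (Commute.all v w).map α)
  refine eq_top_iff.2 fun g _ => S3702.Hyp.mem ⟨sp, fun v hv g c => ?_, fun v g ⟨y, hy⟩ => ?_⟩ g
  · obtain ⟨j, hj, e⟩ := r.le ⟨v, rfl⟩
    exact h.cJ ca hj (by rintro rfl; exact hv (sp.inj (by simpa using e.symm))) (e ▸ mem_cent.1 c)
  · obtain ⟨j, hj, e⟩ := r.le ⟨v, rfl⟩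
    have c : IsConj (φ j) (φ y) := isConj_iff.2 ⟨g, e ▸ hy.symm⟩
    have k : ∀ t ∈ J9, IsConj t y → y ∈ J9 := fun t ht e => by
      obtain ⟨k, rfl⟩ := isConj_iff.1 e
      exact J9_normal.conj_mem t ht k
    rw [r, ← hy, h.mem_map]
    rcases cube_H y (pow_of_isConj h.inj c (J9_cube j hj)) with rfl | e | e | e | e
    exacts [one_mem _, k _ pd! e, k _ pd! e, k _ pd! e, by
      have c' := c.trans (φ.map_isConj e).symm
      rcases cube_H j (J9_cube j hj) with rfl | e | e | e | e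
      exacts [absurd (h.inj (show φ x0 = φ 1 by simpa using c'.symm)) pd!,
        absurd ((φ.map_isConj e).trans c') (h.nx pd! h.sylA),
        absurd ((φ.map_isConj e).trans c') (h.nx pd! h.sylB),
        absurd ((φ.map_isConj e).trans c') hx, by
          obtain ⟨k, hk⟩ := isConj_iff.1 e.symm
          exact absurd (hk ▸ J9_normal.conj_mem j hj k) pd!]]

theorem pairs_H {x y z : H9} {i j n : ℕ} (hx : ∀ v, IsConj (φ x) (φ v) ↔ Cl i v)
    (hy : ∀ v, IsConj (φ y) (φ v) ↔ Cl j v) (x3 : x ^ 3 = 1) (y3 : y ^ 3 = 1) (hz : z ∈ J9)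
    (z1 : z ≠ 1) (hn : ¬ Cl j z⁻¹) (h3 : ∀ k : H9, Commute k z → k ^ 3 = 1 → k ∈ J9)
    (e : Nat.card {v // Cl i v ∧ Cl j (v⁻¹ * z)} = n) : pairs (φ x) (φ y) (φ z) = n := by
  classical
  have := Fintype.ofFinite H9
  have cube : ∀ {x : H9} {y : G}, x ^ 3 = 1 → IsConj (φ x) y → y ^ 3 = 1 := fun hx h => by
    obtain ⟨g, rfl⟩ := isConj_iff.1 h
    rw [conj_pow, hpow hx]; simp
  rw [pairs_eq φ h.inj z _ _ hx hy fun a b ha hb e => ?_, ← e, Nat.card_eq_fintype_card,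
    Fintype.card_subtype]
  rcases triangle (x := b) (y := (a * b)⁻¹) (cube y3 hb)
    (by rw [inv_pow, e, hpow (J9_cube z hz), inv_one])
    (by rw [mul_inv_rev, mul_inv_cancel_left, inv_pow, cube x3 ha, inv_one]) with
    c | ⟨t, t1, t3, c1, c2⟩
  · rw [e, ← map_inv] at c
    exact absurd ((hy _).1 (hb.trans c)) hn
  · rw [e] at c2
    replace c2 : Commute t (φ z) := by simpa using c2.inv_right
    obtain ⟨k, rfl⟩ := h.cJ ca hz z1 c2
    have m := h.cJ ca (h3 k (hcomm h.inj c2) (h.inj (by simpa using t3)))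
      (by rintro rfl; simp at t1) c1.symm
    exact ⟨(mul_mem_cancel_right m).1 (e ▸ rng φ z), m⟩

theorem not_fused_x : ¬ IsConj (φ c0) (φ x0) := fun hx => by
  classical
  have hA : ∀ v, IsConj (φ a1) (φ v) ↔ Cl 3 v := fun v => ⟨fun e => by
    obtain ⟨g, rfl⟩ := isConj_iff.1 (h.fusA e)
    exact ⟨by rw [conj_pow, show a1 ^ 3 = 1 from pd!]; simp, Equiv.Perm.card_support_conj.trans pd!⟩,
    fun ⟨e1, e2⟩ => by
      rcases cls e1 with e | e | e | e <;> first | exact φ.map_isConj e.1 | omega⟩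
  have hB : ∀ v, IsConj (φ b0) (φ v) ↔ Cl 6 v := fun v => ⟨fun e => by
    obtain ⟨g, rfl⟩ := isConj_iff.1 (h.fusB e)
    exact ⟨by rw [conj_pow, show b0 ^ 3 = 1 from pd!]; simp, Equiv.Perm.card_support_conj.trans pd!⟩,
    fun ⟨e1, e2⟩ => by
      rcases cls e1 with e | e | e | e <;> first | exact φ.map_isConj e.1 | omega⟩
  have hC : ∀ v, IsConj (φ c0) (φ v) ↔ Cl 9 v := fun v => ⟨fun e => by
    have e1 := pow_of_isConj h.inj e (show c0 ^ 3 = 1 from pd!)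
    rcases cls e1 with k | k | k | k
    exacts [absurd k.1 (ne_one_of_isConj h.inj e pd!),
      absurd ((φ.map_isConj k.1).trans e.symm) h.nac,
      absurd ((φ.map_isConj k.1).trans e.symm) h.nbc, ⟨e1, k.2⟩],
    fun ⟨e1, e2⟩ => by
      rcases cls e1 with e | e | e | e
      any_goals omega
      exact e.1.elim φ.map_isConj fun e => hx.trans (φ.map_isConj e)⟩
  have hG := card_mul_index φ.range
  rw [← Nat.card_congr (φ.ofInjective h.inj).toEquiv, card_H9] at hG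
  generalize φ.range.index = q at hG
  have rA := isRat_of_cube (hpow (φ := φ) (x := a1) pd!) (map_inv φ a1 ▸ φ.map_isConj pd!)
  have rB := isRat_of_cube (hpow (φ := φ) (x := b0) pd!) (map_inv φ b0 ▸ φ.map_isConj pd!)
  have rC := isRat_of_cube (hpow (φ := φ) (x := c0) pd!) (map_inv φ c0 ▸ φ.map_isConj pd!)
  have rY := S3702.isRat_of_nine (hpow (φ := φ) (x := y1) pd!) (by omega)
    (map_pow φ y1 2 ▸ φ.map_isConj pd!)
  have rZ := S3702.isRat_of_nine (hpow (φ := φ) (x := y2) pd!) (by omega)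
    (map_pow φ y2 2 ▸ φ.map_isConj pd!)
  have eY : φ y1 ^ 3 = φ c0 := by rw [← map_pow]; exact congrArg φ pd!
  have eZ : φ y2 ^ 3 = φ c0 := by rw [← map_pow]; exact congrArg φ pd!
  have cA := h.card_cent ca (card_H (n := 108) (by decide +kernel))
  have cB := h.card_cent (fun _ => h.cb) (card_H (n := 54) (by decide +kernel))
  have cC := h.card_cent (fun _ => h.cc) (card_H (n := 81) (by decide +kernel))
  have cY := h.card_cent (x := y1) (fun _ c => h.cc (eY ▸ c.pow_right 3))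
    (card_H (n := 9) (by decide +kernel))
  have cZ := h.card_cent (x := y2) (fun _ c => h.cc (eZ ▸ c.pow_right 3))
    (card_H (n := 9) (by decide +kernel))
  have n9 : ∀ x y : H9, x ^ 3 = 1 → y ^ 3 ≠ 1 → ¬ IsConj (φ x) (φ y) := fun x y a b e =>
    b (pow_of_isConj h.inj e a)
  have nYZ : ¬ IsConj (φ y1) (φ y2) := fun e => by
    obtain ⟨g, hg⟩ := isConj_iff.1 e
    obtain ⟨k, rfl⟩ := h.cc (g := g) (comm_of_conj (by rw [← eY, ← conj_pow, hg, eZ, eY]))
    exact absurd (isConj_iff.2 ⟨k, hcj' h.inj hg⟩) pd!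
  have sq : ∀ {x : G} {n : ℕ}, IsRat x → Nat.card (centralizer {x}) = n →
      ∑ χ, iv χ x * iv χ x = n := fun r e => e ▸ sum_iv_of_isConj r (IsConj.refl _)
  have pr : ∀ {x y z : G} {n i j : ℕ} {N : ℚ}, IsRat x → IsRat y → IsRat z → pairs x y z = n →
      Nat.card (centralizer {x}) = i → Nat.card (centralizer {y}) = j → N = n * i * j →
      N = 648 * q * ∑ χ, (iv χ x * iv χ y * iv χ z : ℚ) / iv χ 1 := fun a b c e1 e2 e3 e4 => by
    have := pairs_mul a b c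
    rw [e1, e2, e3, ← hG] at this
    rw [e4, this]; push_cast; rfl
  have ix : ∀ {x : G} {n m : ℕ}, IsRat x → Nat.card (centralizer {x}) = n → n * m = 648 →
      ∀ χ, iv χ 1 ∣ m * q * iv χ x := fun {x n m} r e e' χ => by
    have h1 := card_mul_index (centralizer {x})
    rw [e, ← hG, ← e', mul_assoc] at h1
    have := iv_one_dvd r χ
    rwa [Nat.eq_of_mul_eq_mul_left (Nat.pos_of_ne_zero (by rintro rfl; omega)) h1, Nat.cast_mul] at this
  have a3 : ∀ k : H9, Commute k a1 → k ^ 3 = 1 → k ∈ J9 := pd!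
  have b3 : ∀ k : H9, Commute k b0 → k ^ 3 = 1 → k ∈ J9 := pd!
  have sb : ∀ (U : Subgroup H9), U ≤ T9 → ∀ χ, ∃ n : ℕ, Nat.card {v // v ∈ U ∧ Cl 0 v} * iv χ 1 +
      Nat.card {v // v ∈ U ∧ Cl 3 v} * iv χ (φ a1) + Nat.card {v // v ∈ U ∧ Cl 6 v} * iv χ (φ b0) +
      Nat.card {v // v ∈ U ∧ Cl 9 v} * iv χ (φ c0) +
      Nat.card {v // v ∈ U ∧ (v ^ 3 ≠ 1 ∧ v ∈ M1)} * iv χ (φ y1) +
      Nat.card {v // v ∈ U ∧ (v ^ 3 ≠ 1 ∧ v ∉ M1)} * iv χ (φ y2) = Nat.card U * n := fun U hU χ => by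
    have := Fintype.ofFinite U
    have k : ∀ v ∈ T9, IsRat (φ v) ∧ iv χ (φ v) = (if Cl 0 v then iv χ 1 else 0) +
        (if Cl 3 v then iv χ (φ a1) else 0) + (if Cl 6 v then iv χ (φ b0) else 0) +
        (if Cl 9 v then iv χ (φ c0) else 0) + (if v ^ 3 ≠ 1 ∧ v ∈ M1 then iv χ (φ y1) else 0) +
        (if v ^ 3 ≠ 1 ∧ v ∉ M1 then iv χ (φ y2) else 0) := fun v hv => by
      by_cases e : v ^ 3 = 1
      · rcases cls e with ⟨rfl, k⟩ | ⟨-, k⟩ | ⟨-, k⟩ | ⟨-, k⟩
        · simp [Cl, isRat_one]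
        · simp [Cl, e, k, rA.conj ((hA v).2 ⟨e, k⟩), iv_conj ((hA v).2 ⟨e, k⟩)]
        · simp [Cl, e, k, rB.conj ((hB v).2 ⟨e, k⟩), iv_conj ((hB v).2 ⟨e, k⟩)]
        · simp [Cl, e, k, rC.conj ((hC v).2 ⟨e, k⟩), iv_conj ((hC v).2 ⟨e, k⟩)]
      · rcases nine_T v hv e with ⟨k, c⟩ | ⟨k, c⟩
        · simp [Cl, e, k, rY.conj (φ.map_isConj c), iv_conj (φ.map_isConj c)]
        · simp [Cl, e, k, rZ.conj (φ.map_isConj c), iv_conj (φ.map_isConj c)]
    obtain ⟨n, hn⟩ := exists_sum_hom_one (φ.comp U.subtype) χ fun v => (k v (hU v.2)).1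
    refine ⟨n, ?_⟩
    rw [Nat.card_eq_fintype_card (α := U), ← hn]
    simp only [← sum_ite_card, ← Finset.sum_add_distrib]
    exact Finset.sum_congr rfl fun v _ => by convert (k v (hU v.2)).2.symm; rfl
  refine Tab.false (A := fun χ => iv χ (φ a1)) (B := fun χ => iv χ (φ b0))
    (C := fun χ => iv χ (φ c0)) (Y := fun χ => iv χ (φ y1)) (Z := fun χ => iv χ (φ y2))
    (d := fun χ => iv χ 1) (o := irrOne G) (q := q) ⟨by simp [iv_irrOne], iv_one_pos,
    ⟨sq rA cA, sq rB cB, sq rC cC, sq rY cY, sq rZ cZ, by rw [sum_iv_one_sq, ← hG]; simp⟩,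
    ⟨sum_iv_of_not_isConj rA rB h.nab, sum_iv_of_not_isConj rA rC h.nac,
      sum_iv_of_not_isConj rA rY (n9 _ _ pd! pd!), sum_iv_of_not_isConj rA rZ (n9 _ _ pd! pd!),
      sum_iv_of_not_isConj rB rC h.nbc, sum_iv_of_not_isConj rB rY (n9 _ _ pd! pd!),
      sum_iv_of_not_isConj rB rZ (n9 _ _ pd! pd!), sum_iv_of_not_isConj rC rY (n9 _ _ pd! pd!),
      sum_iv_of_not_isConj rC rZ (n9 _ _ pd! pd!), sum_iv_of_not_isConj rY rZ nYZ⟩,
    ⟨sum_iv_one_mul rA (hne1 h.inj pd!), sum_iv_one_mul rB (hne1 h.inj pd!),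
      sum_iv_one_mul rC (hne1 h.inj pd!), sum_iv_one_mul rY (hne1 h.inj pd!),
      sum_iv_one_mul rZ (hne1 h.inj pd!)⟩,
    ⟨pr rA rA rB (h.pairs_H ca hA hA pd! pd! pd! pd! pd! b3 (card_H (n := 2) (by decide +kernel)))
      cA cA (by norm_num),
    pr rA rC rA (h.pairs_H ca hA hC pd! pd! pd! pd! pd! a3 (card_H (n := 0) (by decide +kernel)))
      cA cC (by norm_num),
    pr rB rB rA (h.pairs_H ca hB hB pd! pd! pd! pd! pd! a3 (card_H (n := 4) (by decide +kernel)))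
      cB cB (by norm_num),
    pr rA rC rB (h.pairs_H ca hA hC pd! pd! pd! pd! pd! b3 (card_H (n := 2) (by decide +kernel)))
      cA cC (by norm_num),
    pr rC rC rA (h.pairs_H ca hC hC pd! pd! pd! pd! pd! a3 (card_H (n := 4) (by decide +kernel)))
      cC cC (by norm_num),
    pr rB rC rB (h.pairs_H ca hB hC pd! pd! pd! pd! pd! b3 (card_H (n := 4) (by decide +kernel)))
      cB cC (by norm_num),
    pr rC rC rB (h.pairs_H ca hC hC pd! pd! pd! pd! pd! b3 (card_H (n := 38) (by decide +kernel)))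
      cC cC (by norm_num)⟩,
    fun χ => ⟨dvd_iv_one_sub Nat.prime_three rA (hpow pd!) χ,
      dvd_iv_one_sub Nat.prime_three rB (hpow pd!) χ, dvd_iv_one_sub Nat.prime_three rC (hpow pd!) χ,
      eY ▸ dvd_iv_pow_sub Nat.prime_three rY (eY ▸ rC) χ,
      eZ ▸ dvd_iv_pow_sub Nat.prime_three rZ (eZ ▸ rC) χ⟩, fun χ => ⟨?_, ?_, ?_, ?_⟩,
    fun χ => ⟨ix (m := 6) rA cA rfl χ, ix (m := 12) rB cB rfl χ, ix (m := 8) rC cC rfl χ,
      ix (m := 72) rY cY rfl χ, ix (m := 72) rZ cZ rfl χ⟩⟩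
  · have k : ∀ x : H9, IsConj x x⁻¹ → IsConj (φ x) (φ x)⁻¹ := fun x e => map_inv φ x ▸ φ.map_isConj e
    obtain ⟨n, hn⟩ := exists_sum_nine (a := φ a1) (b := φ a2) (hpow pd!) (hpow pd!)
      (Commute.map pd! φ) (k _ pd!) (k _ pd!) (by rw [← map_mul]; exact k _ pd!)
      (by rw [← map_inv, ← map_mul]; exact k _ pd!) χ
    rw [← map_inv, ← map_mul, ← map_mul, ← iv_conj ((hA a2).2 pd!), ← iv_conj ((hB (a1 * a2)).2 pd!),
      ← iv_conj ((hB (a1 * a2⁻¹)).2 pd!)] at hn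
    exact ⟨n, by linarith⟩
  · obtain ⟨n, hn⟩ := sb M1 (fun _ e => e.1) χ
    rw [card_H (n := 1) (by decide +kernel), card_H (n := 0) (by decide +kernel),
      card_H (n := 6) (by decide +kernel), card_H (n := 2) (by decide +kernel),
      card_H (n := 18) (by decide +kernel), card_H (n := 0) (by decide +kernel),
      card_H (n := 27) (by decide +kernel)] at hn
    exact ⟨n, by push_cast at hn; linarith⟩
  · obtain ⟨n, hn⟩ := sb M2 (fun _ e => e.1) χ
    rw [card_H (n := 1) (by decide +kernel), card_H (n := 0) (by decide +kernel),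
      card_H (n := 6) (by decide +kernel), card_H (n := 2) (by decide +kernel),
      card_H (n := 0) (by decide +kernel), card_H (n := 18) (by decide +kernel),
      card_H (n := 27) (by decide +kernel)] at hn
    exact ⟨n, by push_cast at hn; linarith⟩
  · obtain ⟨n, hn⟩ := sb T9 le_rfl χ
    rw [card_H (n := 1) (by decide +kernel), card_H (n := 6) (by decide +kernel),
      card_H (n := 12) (by decide +kernel), card_H (n := 26) (by decide +kernel),
      card_H (n := 18) (by decide +kernel), card_H (n := 18) (by decide +kernel), card_T9] at hn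
    exact ⟨n, by push_cast at hn; linarith⟩

theorem top : φ.range = ⊤ := h.top_of ca (h.not_fused_x ca)

end Base

end Cfsg.Agent.A9
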