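import Cfsg.Agent.Loc3.Sym8A

/-!
General lemmas for the 3-local recognition of `A₉`.
-/

set_option autoImplicit false
set_option synthInstance.maxSize 100000

namespace Cfsg.Agent.A9

open Subgroup Cfsg Cfsg.Agent.PLocal.Amb Cfsg.Agent.Loc3

universe u

variable {G : Type u} [Group G] [Finite G]

theorem le_norm_of_sig {C F D : Subgroup G} {w : G} (hF : F ≤ C)
    (hc : ∀ e ∈ F, ∀ g ∈ C, Commute g e) (h4 : Nat.card F = 4) (hw : w ∈ C) (w3 : w ^ 3 = 1)
    (w1 : w ≠ 1) (hC : ∀ g ∈ C, Commute g w → ∃ e ∈ F, g * e ∈ zpowers w) (h3 : IsPGroup 3 D)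
    (hD : D ≤ 𝐍[C]) (k3 : ∀ T ≤ C, D ≤ 𝐍[T] → (Nat.card T).Coprime 3 → T ≤ F) :
    C ≤ 𝐍[zpowers w] := by
  rcases sc3 hF hc (by rw [h4]; norm_num) hw w3 w1 hC
    (k3 _ (Op'_le _ _) (hD.trans (norm_le_norm_Op' 3 _)) (coprime_Op' _ _)) with
    e | ⟨π, hπ, e⟩ | e
  · exact e
  · exfalso
    have hk : Nat.card π.ker = 4 := by
      rw [← h4, ← Nat.card_congr (subgroupOfEquivOfLe hF).toEquiv]
      exact congrArg (fun x : Subgroup C => Nat.card x) (Subgroup.ext e)
    have hc := card_mul_index π.ker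
    rw [hk, index_ker, MonoidHom.range_eq_top.2 hπ, card_top, nat_card_alternatingGroup] at hc
    replace hc : 240 = Nat.card C := (by simp [Nat.factorial] : 240 = _).trans hc
    have hV := card_four (a := a5) (b := b5) pd! pd! pd! pd! pd! pd!
    have h1 : Nat.card (((closure {a5, b5}).comap π).map (Subgroup.subtype _)) = 2 ^ 4 := by
      rw [card_subtype, Grp.card_comap_of_surjective π hπ, hV, hk]; rfl
    have h5 := Grp.card_mul_relIndex (map_subtype_le ((closure {a5, b5}).comap π))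
    have hP := isSyl_of_not_dvd_relIndex (IsPGroup.of_card h1) (map_subtype_le _) (by
      rw [h1] at h5; omega)
    obtain ⟨c, hc5⟩ := hπ c5
    have c3 : (c ^ 4) ^ 3 = 1 := by
      rw [← pow_mul, mul_comm, pow_mul]
      have := pow_card_eq_one' (x := (⟨_, (e (c ^ 3)).1 (by rw [map_pow, hc5]; exact pd!)⟩ : F))
      rw [h4] at this
      exact Subtype.ext (congrArg (fun x : F => x.1) this)
    have c4 : π (c ^ 4) = c5 := by rw [map_pow, hc5]; exact pd!
    generalize c ^ 4 = c at c3 c4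
    have cn : c.1 ∈ 𝐍[((closure {a5, b5}).comap π).map (Subgroup.subtype _)] :=
      mem_normalizer_of_cj_le (cj_le_iff_forall.2 (by
        rintro _ ⟨x, hx, rfl⟩
        refine ⟨c * x * c⁻¹, ?_, rfl⟩
        have : c5 ∈ 𝐍[closure {a5, b5}] := mem_norm_pair
          ((mem_four pd! pd! pd!).2 pd!) ((mem_four pd! pd! pd!).2 pd!)
        simpa [c4] using conj_mem_of_mem_normalizer this hx))
    obtain ⟨T, hT, hn⟩ := inv_syl h3 hD hP fun k => by
      have h5 := orderOf_dvd_natCard _ (mem_inf.2 ⟨c.2, cn⟩)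
      rw [orderOf_three (congrArg Subtype.val c3) fun k => by
        rw [show c = 1 from Subtype.ext k, map_one] at c4; exact absurd c4 pd!] at h5
      have := Nat.mul_dvd_mul h5 k
      rw [← inf_relIndex_left, Grp.card_mul_relIndex inf_le_left] at this
      omega
    obtain ⟨m, hm⟩ := hT.pgrp.exists_card_eq
    have h6 := card_le_of_le (k3 T hT.le hn (hm ▸ Nat.Coprime.pow_left m (by norm_num)))
    rw [hT.card_eq hP, h1, h4] at h6
    omega
  · exfalso
    have := Fact.mk (by norm_num : Nat.Prime 7)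
    rw [h4] at e
    obtain ⟨P⟩ : Nonempty (Sylow 7 C) := inferInstance
    obtain ⟨T, hT, hn⟩ := inv_syl h3 hD (isSyl_map_subtype P) fun k => by
      have h1 := card_sylow_modEq_one 7 C
      have h3 := P.card_dvd_index
      have h4 := P.not_dvd_index
      have h5 := index_dvd_card (P : Subgroup C)
      rw [relIndex, ← normalizer_eq_subgroupOf] at k
      replace k : 3 ∣ Nat.card (Sylow 7 C) := P.card_eq_index_normalizer ▸ k
      rw [e] at h5
      have h6 : (P : Subgroup C).index ∣ 96 :=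
        (Nat.Coprime.dvd_mul_left ((Nat.Prime.coprime_iff_not_dvd this.out).2 h4).symm).1 h5
      have h7 := h3.trans h6
      generalize Nat.card (Sylow 7 C) = m at h1 k h7
      have := Nat.le_of_dvd (by norm_num) h7
      unfold Nat.ModEq at h1
      interval_cases m <;> omega
    obtain ⟨m, hm⟩ := hT.pgrp.exists_card_eq
    have h6 := card_dvd_of_le (k3 T hT.le hn (hm ▸ Nat.Coprime.pow_left m (by norm_num)))
    rw [hm, h4] at h6
    rw [Nat.Coprime.eq_one_of_dvd (Nat.Coprime.pow_left m (by norm_num)) h6] at hm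
    exact hT.eq_bot_iff.1 (card_eq_one.1 hm) (by rw [e]; norm_num)

/-- Burnside's fusion lemma for the centre of a Sylow subgroup -/
theorem burn_fus {p : ℕ} [Fact p.Prime] {T : Subgroup G} (hT : IsSyl p T ⊤) {x y : G}
    (hx : T ≤ centralizer {x}) (hy : T ≤ centralizer {y}) (e : IsConj x y) :
    ∃ n ∈ 𝐍[T], n * x * n⁻¹ = y := by
  obtain ⟨g, hg⟩ := isConj_iff.1 e
  have h1 := (hT.mono hx le_top).cj g
  rw [← centralizer_singleton_conj, hg] at h1
  obtain ⟨d, hd, e1⟩ := (hT.mono hy le_top).exists_cj_eq h1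
  refine ⟨d * g, cj_eq_iff.1 (by rw [cj_mul, e1]), ?_⟩
  rw [← conj_of_comm (mem_cent.1 hd), ← hg]; group

theorem not_nine {A : Type*} [Group A] {φ : A →* G} (inj : Function.Injective φ) {s x : A}
    (c : Commute x s) (x3 : x ^ 3 = 1) (x1 : x ≠ 1) (hC : ∀ g, Commute g (φ x) → g ∈ φ.range)
    (h : ∀ d, Commute d x → Commute d s → (d = 1 ∨ d = x ∨ d = x⁻¹) ∨ (d ^ 3 ≠ 1 ∧ (d ^ 3) ^ 4 = 1)) :
    ¬ 9 ∣ Nat.card (centralizer ({φ s} : Set G)) :=
  not_nine_of (mem_cent.2 (c.map φ)) (hpow x3) (by simpa using inj.ne x1) fun d hd e ⟨k, hk⟩ => by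
    obtain ⟨d, rfl⟩ := hC d e
    rcases h d (inj (by simpa using e.eq)) (inj (by simpa using (mem_cent.1 hd).eq)) with
      e | ⟨e1, e2⟩
    · exact (mem_zpowers_three (hpow x3)).2 (by rcases e with rfl | rfl | rfl <;> simp)
    · refine absurd (orderOf_eq_one_iff.1 (Nat.eq_one_of_dvd_coprimes
        (show (3 ^ k).Coprime 4 from Nat.Coprime.pow_left k (by norm_num))
        (orderOf_dvd_of_pow_eq_one ?_) (orderOf_dvd_of_pow_eq_one e2))) e1
      rw [← pow_mul, mul_comm, pow_mul, inj (show φ (d ^ 3 ^ k) = φ 1 by simpa using hk), one_pow]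

/-- involutions are not fused if their centralizers contain different elements of order three -/
theorem not_fused {s t x y : G} (h9 : ¬ 9 ∣ Nat.card (centralizer ({s} : Set G))) (x3 : x ^ 3 = 1)
    (x1 : x ≠ 1) (y3 : y ^ 3 = 1) (y1 : y ≠ 1) (cx : Commute x t) (cy : Commute y s)
    (r : IsConj y y⁻¹) (n : ¬ IsConj x y) : ¬ IsConj t s := fun e => by
  obtain ⟨c, hc⟩ := isConj_iff.1 e
  obtain ⟨g, -, hg⟩ := conj_of_not_nine h9 (mem_cent.2 (hc ▸ Commute.cj cx c)) (mem_cent.2 cy)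
    (by rw [conj_pow, x3]; simp) (by simpa using x1) y3 y1
  have h2 : IsConj x (g * (c * x * c⁻¹) * g⁻¹) := isConj_iff.2 ⟨g * c, by group⟩
  rcases hg with hg | hg <;> rw [hg] at h2
  exacts [n h2, n (h2.trans r.symm)]

/-- an element of order dividing three in a `3'`-group generated with a conjugate -/
theorem comm_of_cop {T : Subgroup G} (hT : (Nat.card T).Coprime 3) {k a : G} (hk : k ∈ T)
    (ha : a ∈ 𝐍[T]) (h : (k * a * k⁻¹ * a⁻¹) ^ 3 = 1) : Commute k a := by
  have := eq_one_of_cop hT (k := k * a * k⁻¹ * a⁻¹) (by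
    simpa [mul_assoc] using mul_mem hk (conj_mem_of_mem_normalizer ha (inv_mem hk))) h
  exact comm_of_conj (mul_inv_eq_one.1 this)

end Cfsg.Agent.A9
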