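import Cfsg.Agent.A9.Setup
import Cfsg.Agent.A9.Tri

/-!
A subgroup `A₉` which controls the centralizers of its elements of order three.
-/

set_option autoImplicit false
set_option synthInstance.maxSize 100000

namespace Cfsg.Agent.A9

open Subgroup Cfsg Cfsg.Agent.PLocal.Amb Cfsg.Agent.Loc3

noncomputable section
abbrev t9 : Al := el Al 0x876542301
abbrev f9 : Al := el Al 0x876541032
abbrev a9 : Al := el Al 0x867453210
abbrev z9 : Al := el Al 0x876543021
abbrev w9 : Al := el Al 0x857643210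
abbrev b9 : Al := el Al 0x876453201
abbrev u9 : Al := el Al 0x867452301
abbrev y9 : Al := el Al 0x876354021
abbrev c9 : Al := el Al 0x687354021
abbrev e9 : Al := el Al 0x832107654
abbrev k9 : Al := el Al 0x876325410
abbrev l9 : Al := el Al 0x876103254
abbrev v9 : Al := el Al 0x876105432
abbrev h9 : Al := el Al 0x487653210
end

section Model
open Equiv Equiv.Perm

/-- fixes more than one point -/
abbrev Fy (σ : Al) : Prop := σ.1.support.card ≠ 8

theorem p9_one : ∀ x : Al, Commute x t9 → x * x = 1 → Fy x → Fy (x * t9) → x ≠ 1 → x ≠ t9 →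
    (x = f9 ∨ x = f9 * t9) ∨ ∃ v ∈ [el Al 0x456783210, el Al 0x567843210, el Al 0x678453210,
      el Al 0x784563210, el Al 0x845673210], Commute v x ∧
      Commute v t9 ∧ v * v = 1 ∧ Fy (x * v) ∧ Fy (x * v * t9) ∧ v ≠ 1 ∧ v ≠ t9 ∧ v ≠ x ∧
      v ≠ x * t9 := pd!

theorem p9_two : ∀ v : Al, Commute v t9 → Commute v f9 → True ∧ (v * v = 1 →
    Fy (f9 * v) → Fy (f9 * v * t9) → v = 1 ∨ v = t9 ∨ v = f9 ∨ v = f9 * t9) := pd!

theorem p9_three : ∀ x : Al, Commute x t9 → x = 1 ∨ x = t9 ∨ ∃ g ∈ [el Al 0x476853210,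
    el Al 0x478563210, el Al 0x578643210], Commute g t9 ∧
    ((x * (g * (x * x) * g⁻¹)) ^ 15) ^ 2 ^ 2 = 1 ∧ (x * (g * (x * x) * g⁻¹)) ^ 15 ≠ 1 ∧
    (x * (g * (x * x) * g⁻¹)) ^ 15 ≠ t9 := pd!

theorem p9_four : ∀ x : Al, Commute x u9 → (x * t9 * x⁻¹ = t9 ∨ x * t9 * x⁻¹ = t9 * u9) ∨
    (x * t9 * x⁻¹ = b9 ∨ x * t9 * x⁻¹ = b9 * u9) ∨ (x * t9 * x⁻¹ = t9 * b9 ∨
      x * t9 * x⁻¹ = t9 * b9 * u9) := pd!

theorem p9_w : ∀ x : Al, Commute x w9 → Commute x t9 → Commute x f9 →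
    ∃ e ∈ [1, t9, f9, t9 * f9], x * e ∈ [1, w9, w9⁻¹] := pd!

theorem p9_o : ∀ x : Al, Commute x t9 → Commute x f9 → x ∈ [1, t9, f9, t9 * f9] ∨
    ∃ g ∈ [el Al 0x476853210, el Al 0x457863210, el Al 0x487653210, el Al 0x568473210],
    (Commute g t9 ∧ Commute g f9) ∧ ∃ y ∈ [x, x⁻¹], x * (g * y * g⁻¹) ≠ 1 ∧
      (x * (g * y * g⁻¹)) ^ 3 = 1 := pd!

theorem inv_cases9 {x : Al} (h2 : x * x = 1) (h1 : x ≠ 1) :
    (Fy x ∧ IsConj t9 x) ∨ (¬ Fy x ∧ IsConj u9 x) := by
  have h2' : x.1 ^ 2 = 1 := by rw [pow_two]; exact congrArg Subtype.val h2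
  have e1 := cycleType_of_pow_prime_eq_one (p := 2) h2'
  have e2 := x.1.sum_cycleType
  have e3 := x.1.sign_of_cycleType
  rw [x.2, e2] at e3
  rw [e1, Multiset.sum_replicate, smul_eq_mul] at e2
  have e4 : Even (x.1.support.card + x.1.cycleType.card) := by
    by_contra h
    rw [(Nat.not_even_iff_odd.1 h).neg_one_pow] at e3
    exact absurd e3 (by decide)
  rw [Nat.even_iff] at e4
  have e5 : x.1.support.card ≤ 9 := (Finset.card_le_univ _).trans (by simp)
  have e6 : x.1.support.card ≠ 0 := by simpa using h1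
  by_cases h8 : x.1.support.card = 8
  · refine Or.inr ⟨fun h => h h8, isConj_alt (swap 0 1) (isConj_of_supp Nat.prime_two
      pd! h2' ?_) (by simp) pd!⟩
    rw [h8]; exact pd!
  · refine Or.inl ⟨h8, isConj_alt (swap 0 1) (isConj_of_supp Nat.prime_two
      pd! h2' ?_) (by simp) pd!⟩
    rw [show x.1.support.card = 4 by omega]; exact pd!

theorem cube_cases9 {x : Al} (h3 : x ^ 3 = 1) (h1 : x ≠ 1) :
    IsConj z9 x ∨ IsConj y9 x ∨ IsConj c9 x := by
  have h3' : x.1 ^ 3 = 1 := congrArg Subtype.val h3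
  have e2 := dvd_supp Nat.prime_three h3'
  have e5 : x.1.support.card ≤ 9 := (Finset.card_le_univ _).trans (by simp)
  have e6 : x.1.support.card ≠ 0 := by simpa using h1
  rcases (by omega : x.1.support.card = 3 ∨ x.1.support.card = 6 ∨ x.1.support.card = 9) with
    h8 | h8 | h8
  · refine Or.inl (isConj_alt (swap 3 4) (isConj_of_supp Nat.prime_three
      pd! h3' ?_) (by simp) pd!)
    rw [h8]; exact pd!
  · refine Or.inr (Or.inl (isConj_alt (swap 6 7) (isConj_of_supp Nat.prime_three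
      pd! h3' ?_) (by simp) pd!))
    rw [h8]; exact pd!
  · refine Or.inr (Or.inr (isConj_alt (swap 0 3 * swap 1 4 * swap 2 5)
      (isConj_of_supp Nat.prime_three pd! h3' ?_) pd! pd!))
    rw [h8]; exact pd!

end Model

universe u

variable {G : Type u} [Group G] [Finite G]

structure Fin9 (φ : Al →* G) : Prop where
  inj : Function.Injective φ
  cz : ∀ g, Commute g (φ z9) → g ∈ φ.range
  cy : ∀ g, Commute g (φ y9) → g ∈ φ.range
  cc : ∀ g, Commute g (φ c9) → g ∈ φ.range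
  nzy : ¬ IsConj (φ z9) (φ y9)
  nzc : ¬ IsConj (φ z9) (φ c9)
  nyc : ¬ IsConj (φ y9) (φ c9)

namespace Fin9
variable {φ : Al →* G} (h : Fin9 φ)
include h

omit [Finite G] in
theorem comm {x y : Al} (e : Commute (φ x) (φ y)) : Commute x y := hcomm h.inj e

omit [Finite G] in
theorem ne {x y : Al} (e : x ≠ y) : φ x ≠ φ y := h.inj.ne e

omit [Finite G] in
theorem ne1 {x : Al} (e : x ≠ 1) : φ x ≠ 1 := hne1 h.inj e

omit [Finite G] in
theorem uf3 {x : Al} (x3 : x ^ 3 = 1) (x1 : x ≠ 1) : UF φ.range (φ x) := by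
  have k := fun {a y : Al} (hy : IsConj (φ a) (φ y)) (a3 : a ^ 3 = 1) (a1 : a ≠ 1) =>
    cube_cases9 (pow_of_isConj h.inj hy a3) (ne_one_of_isConj h.inj hy a1)
  rcases cube_cases9 x3 x1 with e | e | e
  · refine (UF.of_cent_hom h.cz fun y hy => ?_).of_isConj e
    rcases k hy pd! pd! with e | e | e
    exacts [e, absurd (hy.trans (φ.map_isConj e).symm) h.nzy,
      absurd (hy.trans (φ.map_isConj e).symm) h.nzc]
  · refine (UF.of_cent_hom h.cy fun y hy => ?_).of_isConj e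
    rcases k hy pd! pd! with e | e | e
    exacts [absurd ((φ.map_isConj e).trans hy.symm) h.nzy, e,
      absurd (hy.trans (φ.map_isConj e).symm) h.nyc]
  · refine (UF.of_cent_hom h.cc fun y hy => ?_).of_isConj e
    rcases k hy pd! pd! with e | e | e
    exacts [absurd ((φ.map_isConj e).trans hy.symm) h.nzc,
      absurd ((φ.map_isConj e).trans hy.symm) h.nyc, e]

omit [Finite G] in
theorem uf3' {x : G} (hx : x ∈ φ.range) (x3 : x ^ 3 = 1) (x1 : x ≠ 1) : UF φ.range x := by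
  obtain ⟨x, rfl⟩ := hx
  exact h.uf3 (h.inj (by simpa using x3)) (by rintro rfl; simp at x1)

theorem ntu : ¬ IsConj (φ t9) (φ u9) :=
  not_fused (x := φ w9) (y := φ v9) (not_nine h.inj pd! pd! pd!
    (fun _ => (h.uf3 (x := v9) pd! pd!).comm) pd!) (hpow pd!) (h.ne1 pd!) (hpow pd!) (h.ne1 pd!)
    (Commute.map pd! φ) (Commute.map pd! φ) (map_inv φ v9 ▸ φ.map_isConj pd!) fun e =>
      h.nzy ((φ.map_isConj (show IsConj z9 w9 from pd!)).trans (e.trans (φ.map_isConj pd!)))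

theorem fx_conj {x y : Al} (e : IsConj (φ x) (φ y)) (x2 : x * x = 1) (hx : Fy x) : Fy y := by
  by_cases x1 : x = 1
  · subst x1
    rw [h.inj (show φ y = φ 1 by simpa using e.symm)]
    exact hx
  have y2 : y * y = 1 := by rw [← pow_two] at x2 ⊢; exact pow_of_isConj h.inj e x2
  rcases inv_cases9 y2 (ne_one_of_isConj h.inj e x1) with e1 | e1
  · exact e1.1
  · exact absurd ((φ.map_isConj ((inv_cases9 x2 x1).resolve_right fun k => k.1 hx).2).trans
      (e.trans (φ.map_isConj e1.2).symm)) h.ntu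

omit [Finite G] in
theorem mul_eq {x y z : Al} (e : x * y = z) : φ x * φ y = φ z := by rw [← map_mul, e]

omit h [Finite G] in
theorem sq {x : Al} (e : x * x = 1) : φ x * φ x = 1 := by rw [← map_mul, e, map_one]

omit h [Finite G] in
theorem cube {x : Al} (e : x ^ 3 = 1) : φ x ^ 3 = 1 := by rw [← map_pow, e, map_one]

theorem cF {g : G} (h1 : Commute g (φ t9)) (h2 : Commute g (φ f9)) : g ∈ φ.range := by
  have z3 := cube (φ := φ) (show z9 ^ 3 = 1 from pd!)
  have w3 := cube (φ := φ) (show w9 ^ 3 = 1 from pd!)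
  have tf := (show Commute t9 f9 from pd!).map φ
  have mC : ∀ x : Al, Commute x t9 ∧ Commute x f9 →
      φ x ∈ centralizer {φ t9} ⊓ centralizer {φ f9} := fun x e =>
    ⟨mem_cent.2 (e.1.map φ), mem_cent.2 (e.2.map φ)⟩
  have mF : ∀ x : Al, φ x ∈ closure {φ t9, φ f9} → x ∈ [1, t9, f9, t9 * f9] := fun x e => by
    rw [mem_four (sq pd!) (sq pd!) tf, ← map_mul, ← φ.map_one] at e
    simpa only [h.inj.eq_iff, List.mem_cons, List.not_mem_nil, or_false] using e
  have h4 : Nat.card (closure ({φ t9, φ f9} : Set G)) = 4 :=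
    card_four (sq pd!) (sq pd!) tf (h.ne1 pd!) (h.ne1 pd!) (h.ne pd!)
  have zC : φ z9 ∈ 𝐍[centralizer {φ t9} ⊓ centralizer {φ f9}] :=
    mem_norm_inf_cent fun x a b => by
      rw [comm_conj_iff, comm_conj_iff, ← map_inv, ← map_mul, ← map_mul, ← map_mul, ← map_mul,
        show z9⁻¹ * t9 * z9 = f9 from pd!, show z9⁻¹ * f9 * z9 = t9 * f9 from pd!, map_mul]
      exact ⟨b, a.mul_right b⟩
  have hO := coprime_Op' 3 (centralizer {φ t9} ⊓ centralizer {φ f9})
  have nO := le_norm_Op' 3 (centralizer {φ t9} ⊓ centralizer {φ f9})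
  have oA : Op' 3 (centralizer {φ t9} ⊓ centralizer {φ f9}) ≤ φ.range := by
    refine le_of_four z3 w3 ((show Commute z9 w9 from pd!).map φ) (h.ne1 pd!)
      (fun e => absurd ((hzp h.inj pd!).1 e) pd!) (norm_le_norm_Op' 3 _ zC) (nO (mC w9 pd!)) hO ?_
    rintro k - (e | e | e | e)
    · exact (h.uf3 pd! pd!).comm e
    · exact (h.uf3 pd! pd!).comm e
    · rw [← map_mul] at e; exact (h.uf3 pd! pd!).comm e
    · rw [← map_inv, ← map_mul] at e; exact (h.uf3 pd! pd!).comm e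
  rcases sc3 (C := centralizer {φ t9} ⊓ centralizer {φ f9}) (F := closure {φ t9, φ f9})
    ((closure_le _).2 (by rintro _ (rfl | rfl) <;> exact mC _ pd!))
    (fun e he g hg => comm_pair he (mem_cent.1 hg.1) (mem_cent.1 hg.2)) (by rw [h4]; norm_num)
    (mC w9 pd!) w3 (h.ne1 pd!) (fun g hg c => by
      obtain ⟨x, rfl⟩ := (h.uf3 (x := w9) pd! pd!).comm c
      obtain ⟨e, he, k⟩ := p9_w x (h.comm c) (h.comm (mem_cent.1 hg.1)) (h.comm (mem_cent.1 hg.2))
      exact ⟨_, mem_four_map he, by rw [← map_mul]; exact (hzp h.inj pd!).2 k⟩) (fun k hk => by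
      obtain ⟨x, rfl⟩ := oA hk
      have hx := Op'_le 3 _ hk
      rcases p9_o x (h.comm (mem_cent.1 hx.1)) (h.comm (mem_cent.1 hx.2)) with
        e | ⟨g, -, c, y, hy, e1, e3⟩
      · exact mem_four_map e
      have hy' : φ y ∈ Op' 3 (centralizer {φ t9} ⊓ centralizer {φ f9}) := by
        simp only [List.mem_cons, List.not_mem_nil, or_false] at hy
        rcases hy with rfl | rfl
        exacts [hk, map_inv φ _ ▸ inv_mem hk]
      refine absurd (eq_one_of_cop hO ?_ (cube e3)) (h.ne1 e1)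
      rw [map_mul, ← hcj rfl]
      exact mul_mem hk (conj_mem_of_mem_normalizer (nO (mC g c)) hy')) with e | ⟨π, hπ, e⟩ | e
  · exact (h.uf3 (x := w9) pd! pd!).2 g (zpowers_le.2 (rng φ w9) (conj_mem_of_mem_normalizer
      (e ⟨mem_cent.2 h1, mem_cent.2 h2⟩) (mem_zpowers _)))
  · have k : ∀ (p : ℕ) [Fact p.Prime] (x : Al) (c : Commute x t9 ∧ Commute x f9), x ^ p = 1 →
        x ∉ [1, t9, f9, t9 * f9] → p ∣ Nat.card ((φ.range.subgroupOf _).map π) :=
      fun p _ x c e1 e2 => by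
        have := orderOf_dvd_natCard ((φ.range.subgroupOf _).map π) ⟨⟨_, mC x c⟩, rng φ x, rfl⟩
        rwa [orderOf_eq_prime (p := p) (by
          rw [← map_pow, ← π.map_one]; exact congrArg π (Subtype.ext (hpow e1)))
          fun d => e2 (mF x ((e _).1 d))] at this
    have := Fact.mk Nat.prime_five
    have d2 := k 2 a9 pd! pd! pd!
    have d3 := k 3 w9 pd! pd! pd!
    have d5 := k 5 h9 pd! pd! pd!
    have hc := card_mul_index ((φ.range.subgroupOf _).map π)
    rw [nat_card_alternatingGroup] at hc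
    have ht : (φ.range.subgroupOf _).map π = ⊤ := by
      generalize (φ.range.subgroupOf _).map π = B at d2 d3 d5 hc
      replace hc : Nat.card B * B.index = 60 := hc.trans (by simp [Nat.factorial])
      obtain ⟨n, hn⟩ : 30 ∣ Nat.card B := by omega
      have i2 : B.index = 1 ∨ B.index = 2 := by
        rw [hn] at hc
        have : n * B.index = 2 := by linarith
        have := Nat.le_of_dvd two_pos (Dvd.intro_left _ this)
        have : B.index ≠ 0 := index_ne_zero_of_finite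
        omega
      refine i2.elim index_eq_one.1 fun i => ((alternatingGroup.isSimpleGroup
        (by simp)).eq_bot_or_eq_top_of_normal B (normal_of_index_eq_two i)).resolve_left ?_
      rintro rfl
      simp at d2
    obtain ⟨k, hk, e1⟩ := ht.ge (mem_top (π ⟨g, mem_cent.2 h1, mem_cent.2 h2⟩))
    rw [← inv_mul_eq_one, ← map_inv, ← map_mul, e] at e1
    have : closure {φ t9, φ f9} ≤ φ.range := (closure_le _).2 (by
      rintro _ (rfl | rfl) <;> exact rng φ _)
    exact (mul_mem_cancel_left (inv_mem hk)).1 (this e1)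
  · have := Fact.mk Nat.prime_five
    have := orderOf_dvd_natCard _ (mC h9 pd!)
    rw [orderOf_eq_prime (p := 5) (hpow pd!) (h.ne1 pd!), e, h4] at this
    omega

theorem nF {g : G} (h1 : Commute g (φ t9))
    (h2 : g * φ f9 * g⁻¹ = φ f9 ∨ g * φ f9 * g⁻¹ = φ f9 * φ t9) : g ∈ φ.range := by
  rcases h2 with h2 | h2
  · exact h.cF h1 (comm_of_conj h2)
  · have e : φ b9 * φ f9 * (φ b9)⁻¹ = φ f9 * φ t9 := by
      rw [← map_inv, ← map_mul, ← map_mul, ← map_mul]; exact congrArg φ pd!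
    have := h.cF (g := (φ b9)⁻¹ * g) (((show Commute b9 t9 from pd!).map φ).inv_left.mul_left h1)
      (comm_of_conj (by
        rw [show (φ b9)⁻¹ * g * φ f9 * ((φ b9)⁻¹ * g)⁻¹ = (φ b9)⁻¹ * (g * φ f9 * g⁻¹) * φ b9 by group,
          h2, ← e]; group))
    simpa using mul_mem (show φ b9 ∈ φ.range from ⟨b9, rfl⟩) this

theorem isol {g : G} (h1 : Commute g (φ t9)) (h2 : g * φ f9 * g⁻¹ ∈ φ.range) :
    g * φ f9 * g⁻¹ = φ f9 ∨ g * φ f9 * g⁻¹ = φ f9 * φ t9 := by
  obtain ⟨x, hx⟩ := h2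
  have ht : g * φ t9 * g⁻¹ = φ t9 := conj_of_comm h1
  have c1 : IsConj (φ f9) (φ x) := isConj_iff.2 ⟨g, hx.symm⟩
  have c2 : IsConj (φ (f9 * t9)) (φ (x * t9)) := isConj_iff.2 ⟨g, by
    rw [map_mul, map_mul, hx, ← ht]; rw [ht]; nth_rewrite 2 [← ht]; group⟩
  have xt : Commute x t9 := h.comm (by
    rw [hx, ← ht]; exact Commute.cj ((show Commute f9 t9 from pd!).map φ) g)
  have x2 : x * x = 1 := by rw [← pow_two]; exact pow_of_isConj h.inj c1 pd!
  rcases p9_one x xt x2 (h.fx_conj c1 pd! pd!) (h.fx_conj c2 pd! pd!)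
    (ne_one_of_isConj h.inj c1 pd!) (by rintro rfl; exact ne_one_of_isConj h.inj c2 pd! pd!) with
    e | ⟨v, -, vx, vt, v2, f1, f2, n1, n2, n3, n4⟩
  · rw [← hx, ← map_mul]; exact e.imp (congrArg φ) (congrArg φ)
  exfalso
  have d1 : Commute (g⁻¹ * φ v * g) (φ t9) := (h1.inv_left.mul_left (vt.map φ)).mul_left h1
  have d2 : Commute (g⁻¹ * φ v * g) (φ f9) := by
    have := Commute.cj (vx.map φ) g⁻¹
    rw [hx] at this; simpa [mul_assoc] using this
  obtain ⟨v', hv⟩ := h.cF d1 d2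
  have hv' : φ v = g * φ v' * g⁻¹ := by rw [hv]; group
  have xv : x * v * (x * v) = 1 := by
    rw [mul_assoc, ← mul_assoc v, vx.eq, mul_assoc, v2, mul_one, x2]
  rcases (p9_two v' (h.comm (hv ▸ d1)) (h.comm (hv ▸ d2))).2
    (h.inj (by rw [map_mul, hv, map_one, show g⁻¹ * φ v * g * (g⁻¹ * φ v * g) =
      g⁻¹ * (φ v * φ v) * g by group, sq v2]; simp))
    (h.fx_conj (isConj_iff.2 ⟨g⁻¹, by rw [map_mul, map_mul, hx, hv']; group⟩) xv f1)
    (h.fx_conj (isConj_iff.2 ⟨g⁻¹, by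
      rw [map_mul, map_mul, map_mul, map_mul, hx, hv']; nth_rewrite 1 [← ht]; group⟩)
      (by rw [← pow_two, (xt.mul_left vt).mul_pow, pow_two, xv, one_mul]; exact pd!) f2) with
    rfl | rfl | rfl | rfl
  · exact n1 (h.inj (by simpa using hv'))
  · exact n2 (h.inj (hv'.trans ht))
  · exact n3 (h.inj (hv'.trans hx.symm))
  · exact n4 (h.inj (by rw [hv', map_mul, map_mul, hx]; nth_rewrite 2 [← ht]; group))

theorem cT {g : G} (h1 : Commute g (φ t9)) : g ∈ φ.range := by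
  obtain ⟨X, _, _, π, q⟩ := exists_CQ (φ t9)
  have t2 := sq (φ := φ) (show t9 * t9 = 1 from pd!)
  have ot : orderOf (φ t9) = 2 := orderOf_eq_prime (by rw [pow_two, t2]) (h.ne1 pd!)
  have ft : Commute (φ f9) (φ t9) := (show Commute f9 t9 from pd!).map φ
  have at' : Commute (φ a9) (φ t9) := (show Commute a9 t9 from pd!).map φ
  have wt : Commute (φ w9) (φ t9) := (show Commute w9 t9 from pd!).map φ
  have f2 : π (φ f9) * π (φ f9) = 1 := by rw [← q.mul ft ft, sq pd!, q.map_one]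
  -- elements commuting with the image of `f`
  have cf : ∀ k, Commute k (φ t9) → Commute (π k) (π (φ f9)) → k ∈ φ.range := fun k hk e =>
    h.nF hk ((q.eq_iff_two t2 ((hk.mul_left ft).mul_left hk.inv_left) ft).1 (by
      rw [q.map_conj hk ft, conj_of_comm e]))
  have hO := Grp.pPrimeCore_coprime 2 X
  have hodd : Odd (Nat.card (oddCore X)) := Nat.coprime_two_right.1 hO
  have hn : (oddCore X).Normal := inferInstance
  -- the core meets the image of `A₈` trivially
  have o1 : ∀ k, Commute k (φ t9) → π k ∈ oddCore X → k ∈ φ.range → π k = 1 := by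
    rintro _ hk ho ⟨x, rfl⟩
    rcases p9_three x (h.comm hk) with rfl | rfl | ⟨g, -, gt, e, n1, n2⟩
    · rw [map_one, q.map_one]
    · exact q.map_s
    · have g' := gt.map φ
      have c1 := (g'.mul_left (hk.mul_left hk)).mul_left g'.inv_left
      have m : π (φ ((x * (g * (x * x) * g⁻¹)) ^ 15)) ∈ oddCore X := by
        rw [map_pow, map_mul, ← hcj rfl, map_mul, q.map_pow (hk.mul_left c1), q.mul hk c1,
          q.map_conj g' (hk.mul_left hk), q.mul hk hk]
        exact pow_mem (mul_mem ho (hn.conj_mem _ (mul_mem ho ho) _)) _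
      have c2 := ((((h.comm hk).mul_left ((gt.mul_left ((h.comm hk).mul_left (h.comm hk))).mul_left
        gt.inv_left))).pow_left 15).map φ
      have := eq_one_of_odd hodd m (n := 2) (by rw [← q.map_pow c2, hpow e, q.map_one])
      rw [q.eq_one_iff_two t2 c2] at this
      exact (this.elim (h.ne1 n1) (h.ne n2)).elim
  have o3 : ∀ x : Al, x ^ 3 = 1 → x ≠ 1 → Commute x t9 → ∀ k ∈ oddCore X,
      Commute k (π (φ x)) → k = 1 := fun x x3 x1 xt k hk e => by
    obtain ⟨k, kt, rfl⟩ := q.surj k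
    exact o1 k kt hk ((h.uf3 x3 x1).comm (q.comm_of_comm kt (xt.map φ) e (cube x3)
      (by rw [ot]; norm_num)))
  have hi := fun k hk => inv_of_fpf (K := oddCore X) f2 (fun k hk => hn.conj_mem k hk _)
    (fun k hk e => by
      obtain ⟨k, kt, rfl⟩ := q.surj k
      exact o1 k kt hk (cf k kt e)) (k := k) hk
  have ca : ∀ k, Commute k (φ t9) → π k ∈ oddCore X → Commute k (φ a9) := fun k kt hk => by
    have := cent_of_a4 hodd (fun k hk l hl => comm_of_inv hi hk hl) (w := π (φ w9))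
      (a := π (φ a9)) (by rw [← q.mul at' at', sq pd!, q.map_one])
      (by rw [← q.map_pow wt, cube pd!, q.map_one])
      (by rw [← q.mul wt at', ← q.map_pow (wt.mul_left at'), ← map_mul, cube pd!, q.map_one])
      (fun k hk => hn.conj_mem k hk _) (fun k hk => hn.conj_mem k hk _) (o3 w9 pd! pd! pd!)
      (by rw [← q.mul wt at', ← map_mul]; exact o3 _ pd! pd! pd!) hk
    rcases (q.eq_iff_two t2 ((kt.mul_left at').mul_left kt.inv_left) at').1 (by
      rw [q.map_conj kt at', conj_of_comm this]) with e | e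
    · exact comm_of_conj e
    · rw [← map_mul] at e
      exact absurd (h.fx_conj (isConj_iff.2 ⟨k, e⟩) pd! pd!) pd!
  have o2 : ∀ k ∈ oddCore X, k = 1 := fun k hk => by
    obtain ⟨k, kt, rfl⟩ := q.surj k
    refine o1 k kt hk ?_
    have c1 := Commute.cj (ca k kt hk) (φ e9)
    have c2 := Commute.cj (ca ((φ w9)⁻¹ * k * (φ w9)⁻¹⁻¹) ((wt.inv_left.mul_left kt).mul_left
      wt.inv_left.inv_left) (by
        rw [q.map_conj wt.inv_left kt]; exact hn.conj_mem _ hk _)) (φ e9 * φ w9)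
    rw [← map_inv, ← map_mul, ← map_mul, show e9 * a9 * e9⁻¹ = t9 from pd!, map_inv] at c1
    rw [show φ e9 * φ w9 * ((φ w9)⁻¹ * k * (φ w9)⁻¹⁻¹) * (φ e9 * φ w9)⁻¹ = φ e9 * k * (φ e9)⁻¹ by
      group, ← map_mul, ← map_inv φ (e9 * w9), ← map_mul, ← map_mul,
      show e9 * w9 * a9 * (e9 * w9)⁻¹ = f9 from pd!] at c2
    have := mul_mem (mul_mem (inv_mem (φ.mem_range.2 ⟨e9, rfl⟩)) (h.cF c1 c2)) (show φ e9 ∈ φ.range from ⟨e9, rfl⟩)
    simpa [mul_assoc] using this
  have iso : IsIsolatedInvolution (π (φ f9)) := ⟨orderOf_eq_prime (by rw [pow_two, f2]) (by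
    rw [ne_eq, q.eq_one_iff_two t2 ft]; exact fun e => e.elim (h.ne1 pd!) (h.ne pd!)), fun k e => by
    obtain ⟨k, kt, rfl⟩ := q.surj k
    have c1 := (kt.mul_left ft).mul_left kt.inv_left
    rw [← q.map_conj kt ft] at e ⊢
    exact (q.eq_iff_two t2 c1 ft).2 (h.isol kt (cf _ c1 e.symm))⟩
  refine cf g h1 (comm_of_conj ?_).symm
  exact mul_inv_eq_one.1 (o2 _ (Inv.ZStar.commutator_mem_oddCore_of_isolated iso (π g)))

theorem ufT : UF φ.range (φ t9) := UF.of_cent_hom (fun _ => h.cT) fun y hy =>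
  ((inv_cases9 (by rw [← pow_two]; exact pow_of_isConj h.inj hy pd!)
    (ne_one_of_isConj h.inj hy pd!)).resolve_right fun e => e.1 (h.fx_conj hy pd! pd!)).2

theorem cU {g : G} (h1 : Commute g (φ u9)) : g ∈ φ.range := by
  obtain ⟨X, _, _, π, q⟩ := exists_CQ (φ u9)
  have u2 := sq (φ := φ) (show u9 * u9 = 1 from pd!)
  have ou : orderOf (φ u9) = 2 := orderOf_eq_prime (by rw [pow_two, u2]) (h.ne1 pd!)
  have tu : Commute (φ t9) (φ u9) := (show Commute t9 u9 from pd!).map φ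
  have bu : Commute (φ b9) (φ u9) := (show Commute b9 u9 from pd!).map φ
  have uf : ∀ x, Commute x (φ u9) → UF φ.range x → UF (q.im φ.range) (π x) := fun x xu e =>
    ⟨q.mem_im_of e.1 xu, fun k hk => by
      obtain ⟨k, ku, rfl⟩ := q.surj k
      rw [← q.map_conj ku xu] at hk
      exact q.mem_im_of (e.2 k (q.mem_of_mem_im (φ.mem_range.2 ⟨u9, rfl⟩) ((ku.mul_left xu).mul_left ku.inv_left)
        hk)) ku⟩
  have cj : ∀ x : Al, Commute x u9 → π (φ x) * π (φ t9) * (π (φ x))⁻¹ = π (φ (x * t9 * x⁻¹)) :=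
    fun x xu => by rw [← q.map_conj (xu.map φ) tu]; simp
  have := eq_top_of_four (Y := q.im φ.range) (a := π (φ t9)) (b := π (φ b9))
    (by rw [← q.mul tu tu, sq pd!, q.map_one]) (by rw [← q.mul bu bu, sq pd!, q.map_one])
    (by rw [commute_iff_eq, ← q.mul tu bu, ← q.mul bu tu, ((show Commute t9 b9 from pd!).map φ).eq])
    (by rw [ne_eq, q.eq_one_iff_two u2 bu]; exact fun e => e.elim (h.ne1 pd!) (h.ne pd!))
    (by rw [ne_eq, q.eq_iff_two u2 bu tu, ← map_mul]; exact fun e => e.elim (h.ne pd!) (h.ne pd!))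
    (by rw [ne_eq, q.eq_one_iff_two u2 tu]; exact fun e => e.elim (h.ne1 pd!) (h.ne pd!))
    (uf _ tu h.ufT) (fun y hy => ?_)
    ⟨_, q.mem_im_of ⟨k9, rfl⟩ ((show Commute k9 u9 from pd!).map φ), by
      rw [cj k9 pd!, show k9 * t9 * k9⁻¹ = b9 from pd!]⟩
    ⟨_, q.mem_im_of ⟨l9, rfl⟩ ((show Commute l9 u9 from pd!).map φ), by
      rw [cj l9 pd!, show l9 * t9 * l9⁻¹ = t9 * b9 from pd!, map_mul, q.mul tu bu]⟩
    fun x hx x3 x1 => ?_
  · exact q.mem_of_mem_im (φ.mem_range.2 ⟨u9, rfl⟩) h1 (this ▸ mem_top _)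
  · obtain ⟨_, ⟨y, rfl⟩, yu, rfl⟩ := q.mem_im.1 hy
    have c1 := ((h.comm yu).mul_left (show Commute t9 u9 from pd!)).mul_left (h.comm yu).inv_left
    rw [cj y (h.comm yu), ← q.mul tu bu, q.eq_iff_two u2 (c1.map φ) tu, q.eq_iff_two u2 (c1.map φ) bu,
      q.eq_iff_two u2 (c1.map φ) (tu.mul_left bu)]
    simp only [← map_mul, h.inj.eq_iff]
    exact p9_four y (h.comm yu)
  · obtain ⟨k, hk, ku, e⟩ := q.mem_im.1 hx
    obtain ⟨k', ku', rfl, k3, hk'⟩ := q.exists_lift x3 (by rw [ou]; norm_num) ku e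
    exact uf _ ku' (h.uf3' (zpowers_le.2 hk hk') k3 (by rintro rfl; exact x1 q.map_one))

theorem ufU : UF φ.range (φ u9) := UF.of_cent_hom (fun _ => h.cU) fun y hy =>
  ((inv_cases9 (by rw [← pow_two]; exact pow_of_isConj h.inj hy pd!)
    (ne_one_of_isConj h.inj hy pd!)).resolve_left fun e =>
      absurd (h.fx_conj hy.symm (by rw [← pow_two]; exact pow_of_isConj h.inj hy pd!) e.1) pd!).2

theorem top : φ.range = ⊤ :=
  eq_top_of_uf (sq pd!) (sq pd!) h.ufT h.ufU h.ntu fun s s2 s1 c => by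
    obtain ⟨x, rfl⟩ := h.cT c
    rcases inv_cases9 (h.inj (show φ (x * x) = φ 1 by simpa using s2))
      (by rintro rfl; simp at s1) with e | e
    exacts [h.ufT.of_isConj e.2, h.ufU.of_isConj e.2]

theorem iso : Nonempty (G ≃* Al) :=
  ⟨(MulEquiv.ofBijective φ ⟨h.inj, MonoidHom.range_eq_top.1 h.top⟩).symm⟩

end Fin9

end Cfsg.Agent.A9
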