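import Cfsg.Agent.A9.Dich
import Cfsg.Agent.A9.Fin9

/-!
Construction of `A₉` from the normalizers of two commuting 3-cycles.
-/

set_option autoImplicit false
set_option synthInstance.maxSize 100000

namespace Cfsg.Agent.A9

open Subgroup Cfsg Cfsg.Agent.PLocal.Amb Cfsg.Agent.Loc3 Cfsg.Agent.KSG

noncomputable section
abbrev zN : L9 := el L9 0x876543021
abbrev wN : L9 := el L9 0x687543210
abbrev x3 : L9 := el L9 0x876534201
abbrev x4 : L9 := el L9 0x876453201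
abbrev x5 : L9 := el L9 0x875643201
abbrev x6 : L9 := el L9 0x867543201
abbrev x7 : L9 := el L9 0x786543201
abbrev p3 : L9 := el L9 0x367548210
abbrev p4 : L9 := el L9 0x467583210
abbrev p5 : L9 := el L9 0x567843210
abbrev fz : L9 := el L9 0x785643210
abbrev qN : L9 := el L9 0x875634210
abbrev tN : L9 := el L9 0x867534210
abbrev ωN : L9 := el L9 0x485376210
abbrev bN : L9 := el L9 0x687354210
abbrev cN : L9 := el L9 0x687354021
abbrev sN : L9 := el L9 0x543876201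
abbrev l4 : L9 := el L9 0x867345210
abbrev l7 : L9 := el L9 0x867543120
abbrev u0 : H9 := el H9 0x210534876
abbrev t0 : H9 := el H9 0x867534210
abbrev m0 : Al := el Al 0x876543021
abbrev m1 : Al := el Al 0x876542301
abbrev m2 : Al := el Al 0x876534201
abbrev m3 : Al := el Al 0x876453201
abbrev m4 : Al := el Al 0x875643201
abbrev m5 : Al := el Al 0x867543201
abbrev m6 : Al := el Al 0x786543201
end

theorem mooreGen9 : (mooreGen 7 : Fin 7 → Al) = ![m0, m1, m2, m3, m4, m5, m6] := by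
  funext i
  fin_cases i
  exacts [Subtype.ext (show Equiv.swap 0 1 * Equiv.swap 1 2 = m0.1 from pd!),
    Subtype.ext (show Equiv.swap 0 1 * Equiv.swap 2 3 = m1.1 from pd!),
    Subtype.ext (show Equiv.swap 0 1 * Equiv.swap 3 4 = m2.1 from pd!),
    Subtype.ext (show Equiv.swap 0 1 * Equiv.swap 4 5 = m3.1 from pd!),
    Subtype.ext (show Equiv.swap 0 1 * Equiv.swap 5 6 = m4.1 from pd!),
    Subtype.ext (show Equiv.swap 0 1 * Equiv.swap 6 7 = m5.1 from pd!),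
    Subtype.ext (show Equiv.swap 0 1 * Equiv.swap 7 8 = m6.1 from pd!)]

theorem l9_words : ∀ x : L9, Commute x zN → x = 1 ∨
    (∃ j ∈ [1, wN, wN⁻¹], j * x * j⁻¹ ∈ [p3, p4, p5]) ∨
    ∃ g ∈ [x * x * (wN * x * wN⁻¹) * (wN⁻¹ * x * wN⁻¹⁻¹),
      x * x * (wN⁻¹ * x * wN⁻¹⁻¹) * (wN * x * wN⁻¹),
      x * (wN * x * wN⁻¹) * x * (wN⁻¹ * x * wN⁻¹⁻¹)],
      ((g ^ 2) ^ 2) ^ 5 ≠ 1 ∧ (((g ^ 2) ^ 2) ^ 5) ^ 3 = 1 := pd!

theorem l9_T : ∀ y : L9, Commute y fz → Commute y x3 → y ^ 2 ^ 2 = 1 ∧ (y * y = 1 → y = 1 ∨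
    y ∈ [x3 * p5, x3 * fz * p5, x3 * fz] ∨ IsConj fz y ∨ IsConj x3 y) := pd!

theorem l9_F : ∀ y1 ∈ [x3 * p5, x3 * fz * p5, x3 * fz], ∀ y2 ∈ [x3 * p5, x3 * fz * p5, x3 * fz],
    ∀ y3 ∈ [x3 * p5, x3 * fz * p5, x3 * fz], y1 ≠ y2 → y2 ≠ y3 → y1 ≠ y3 →
    ∃ k : L9, k * fz * k⁻¹ = y1 * y2 ∧ k * p5 * k⁻¹ = y2 * y3 := pd!

theorem l9_N : ∀ n : L9, n * x3 * n⁻¹ ∈ centralizer {fz} ⊓ centralizer {x3} →
    n * (x3 * p5) * n⁻¹ ∈ centralizer {fz} ⊓ centralizer {x3} →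
    n * qN * n⁻¹ ∈ centralizer {fz} ⊓ centralizer {x3} →
    n ∈ centralizer {fz} ⊓ centralizer {x3} := pd!

theorem l9_norm : ∀ x : L9, x.1 * z9.1 * x.1⁻¹ = z9.1 ∨ x.1 * z9.1 * x.1⁻¹ = z9.1⁻¹ := pd!

universe u

variable {G : Type u} [Group G] [Finite G]

structure Core (φ : H9 →* G) (ψ : L9 →* G) : Prop where
  base : Base φ
  inj : Function.Injective ψ
  rg : ψ.range = 𝐍[zpowers (φ a1)]
  ag : ∀ m : M9, ψ (iL m) = φ (iH m)

namespace Core
variable {φ : H9 →* G} {ψ : L9 →* G} (h : Core φ ψ)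
include h

local notation "𝐟" => MonoidHom.comp (MulEquiv.toMonoidHom (MulAut.conj (φ u0))) ψ

omit [Finite G] in
theorem eq {l : L9} {k : H9} (e : l.1 = k.1) : ψ l = φ k := by
  obtain ⟨l, hl⟩ := l
  obtain ⟨k, hk⟩ := k
  subst e
  exact h.ag ⟨_, hk, hl.2⟩

omit [Finite G] in
theorem fe {l l' : L9} (hl : l.1 ∈ H9) (e : l'.1 = u0.1 * l.1 * u0.1⁻¹) : 𝐟 l = ψ l' := by
  rw [h.eq (k := u0 * ⟨l.1, hl⟩ * u0⁻¹) e, ← hcj rfl, ← h.eq (k := ⟨l.1, hl⟩) rfl]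
  rfl

omit [Finite G] in
theorem finj : Function.Injective 𝐟 := (MulAut.conj (φ u0)).injective.comp h.inj

omit [Finite G] in
theorem z : ψ zN = φ a1 := h.eq pd!

theorem nz {g : G} : g ∈ ψ.range ↔ g * ψ zN * g⁻¹ = ψ zN ∨ g * ψ zN * g⁻¹ = (ψ zN)⁻¹ := by
  rw [h.rg, h.base.mem_Y, h.z]

theorem cz {g : G} (e : Commute g (ψ zN)) : g ∈ ψ.range := h.nz.2 (Or.inl (conj_of_comm e))

theorem le_Y {a b ω : L9} (a2 : a * a = 1) (b2 : b * b = 1) (ab : Commute a b) (a1 : a ≠ 1)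
    (b1 : b ≠ 1) (ne : a ≠ b) (za : Commute zN a) (zb : Commute zN b) (ω3 : ω ^ 3 = 1)
    (ωz : Commute ω zN) (nω : ω ∉ [1, zN, zN⁻¹]) (n1 : ω⁻¹ * a * ω = b) (n2 : ω⁻¹ * b * ω = a * b)
    (hc : ∀ x : L9, Commute x zN → Commute x a → Commute x b →
      (∃ e ∈ [1, a, b, a * b], x * e ∈ [1, zN, zN⁻¹]) ∧
      (x ∈ [1, a, b, a * b] ∨ (x ^ 2 ≠ 1 ∧ (x ^ 2) ^ 3 = 1)))
    (hk : ∀ T ≤ centralizer {ψ a} ⊓ centralizer {ψ b}, ψ ω ∈ 𝐍[T] → ψ zN ∈ 𝐍[T] →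
      (Nat.card T).Coprime 3 → ∀ k ∈ T, Commute k (ψ ω) ∨ Commute k (ψ (ω * zN)) ∨
        Commute k (ψ (ω * zN⁻¹)) → Commute k (ψ zN)) :
    centralizer {ψ a} ⊓ centralizer {ψ b} ≤ ψ.range := by
  have z3 : ψ zN ^ 3 = 1 := hpow pd!
  have z1 : ψ zN ≠ 1 := hne1 h.inj pd!
  have zC : ψ zN ∈ centralizer {ψ a} ⊓ centralizer {ψ b} :=
    ⟨mem_cent.2 (za.map ψ), mem_cent.2 (zb.map ψ)⟩
  refine (le_norm_of_sig (C := centralizer {ψ a} ⊓ centralizer {ψ b}) (F := closure {ψ a, ψ b})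
    (D := closure {ψ ω, ψ zN})
    ((closure_le _).2 (by
      rintro _ (rfl | rfl)
      exacts [⟨mem_cent.2 (Commute.refl _), mem_cent.2 (ab.map ψ)⟩,
        ⟨mem_cent.2 (ab.symm.map ψ), mem_cent.2 (Commute.refl _)⟩]))
    (fun e he g hg => comm_pair he (mem_cent.1 hg.1) (mem_cent.1 hg.2))
    (card_four (hsq a2) (hsq b2) (ab.map ψ) (hne1 h.inj a1) (hne1 h.inj b1) (h.inj.ne ne)) zC z3 z1
    (fun g hg c => ?_) (isPGroup_pair (hpow ω3) z3 (ωz.map ψ)) ((closure_le _).2 ?_)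
    fun T hT hn h3 => ?_).trans fun g hg => h.nz.2 ((mem_norm_three z3 z1).1 hg)
  · obtain ⟨x, rfl⟩ := h.cz c
    obtain ⟨e, he, k⟩ := (hc x (hcomm h.inj c) (hcomm h.inj (mem_cent.1 hg.1))
      (hcomm h.inj (mem_cent.1 hg.2))).1
    exact ⟨_, mem_four_map he, by rw [← map_mul]; exact (hzp h.inj pd!).2 k⟩
  · rintro _ (rfl | rfl)
    · refine mem_norm_inf_cent fun x c d => ?_
      rw [comm_conj_iff, comm_conj_iff, ← map_inv, ← map_mul, ← map_mul, ← map_mul, ← map_mul,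
        n1, n2, map_mul]
      exact ⟨d, c.mul_right d⟩
    · exact le_normalizer zC
  · refine le_of_four (hpow ω3) z3 (ωz.map ψ) z1 (fun e => nω ((hzp h.inj pd!).1 e))
      (hn mem_l) (hn mem_r) h3 fun k hk' e => ?_
    have c : Commute k (ψ zN) := by
      rw [← map_inv, ← map_mul, ← map_mul, or_left_comm] at e
      exact e.elim id (hk T hT (hn mem_l) (hn mem_r) h3 k hk')
    obtain ⟨x, rfl⟩ := h.cz c
    rcases (hc x (hcomm h.inj c) (hcomm h.inj (mem_cent.1 (hT hk').1))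
      (hcomm h.inj (mem_cent.1 (hT hk').2))).2 with e | ⟨e1, e3⟩
    · exact mem_four_map e
    · exact absurd (eq_one_of_cop h3 (map_pow ψ x 2 ▸ pow_mem hk' 2) (hpow e3)) (hne1 h.inj e1)

theorem n5 : ¬ Commute (𝐟 p5) (ψ p5) := fun c => by
  have e := h.le_Y (a := p5) (b := tN) (ω := ωN) pd! pd! pd! pd! pd! pd! pd! pd! pd! pd! pd! pd!
    pd! pd! (fun T _ _ hz h3 k hk e => ?_) (x := 𝐟 p5) ⟨mem_cent.2 c, mem_cent.2
      (h.fe (l := x3) (l' := tN) pd! pd! ▸ (show Commute p5 x3 from pd!).map 𝐟)⟩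
  · rw [h.nz, ← h.fe (l := wN) (l' := zN) pd! pd!, ← map_inv 𝐟 wN] at e
    exact absurd (e.imp (hcj' h.finj) (hcj' h.finj)) pd!
  have k1 : ∀ x : L9, IsConj x cN → Commute k (ψ x) → Commute k (ψ zN) := fun x e c => by
    obtain ⟨g, hg⟩ := isConj_iff.1 e
    have := Commute.cj c (ψ g)
    rw [hcj hg, h.eq (l := cN) (k := c0) pd!, ← mem_cent, h.base.cC] at this
    obtain ⟨n, hn, e⟩ := this
    have e1 : (ψ g * k * (ψ g)⁻¹) ^ 9 = 1 :=
      e ▸ hpow ((show ∀ n : H9, n ∈ T9 → n ^ 9 = 1 from pd!) n hn)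
    rw [eq_one_of_cop (p := 9) (h3.pow_right 2) hk (by simpa [conj_pow] using e1)]
    exact Commute.one_left _
  rcases e with e | e | e
  · obtain ⟨g, hg⟩ := isConj_iff.1 (show IsConj ωN bN from pd!)
    have := Commute.cj e (ψ g)
    rw [hcj hg, h.eq (l := bN) (k := a2 * a3) pd!] at this
    obtain ⟨n, e⟩ := (h.base.ufB.of_isConj pd!).comm this
    have m : k ∈ ψ.range := by
      have := h.ag ⟨n.1, n.2, (show ∀ n : H9, Commute n (a2 * a3) → n.1 ∈ Col 9 0x111111000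
        from pd!) n (hcomm h.base.inj (e ▸ this))⟩
      have := mul_mem (mul_mem (inv_mem (rng ψ g)) ⟨_, this.trans e⟩) (rng ψ g)
      simpa [mul_assoc] using this
    refine comm_of_cop h3 hk hz ?_
    rcases h.nz.1 m with e | e <;> rw [e]
    · simp
    · rw [← map_inv, ← map_mul]; exact hpow pd!
  exacts [k1 _ pd! e, k1 _ pd! e]

theorem four : Commute (𝐟 p4) (ψ fz) ∨ centralizer {ψ fz} ⊓ centralizer {ψ p5} ≤ ψ.range := by
  refine or_iff_not_imp_left.2 fun n => h.le_Y (ω := wN) pd! pd! pd! pd! pd! pd! pd! pd! pd! pd!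
    pd! pd! pd! pd! fun T hT _ hz h3 k hk e => ?_
  have k1 : ∀ (x : L9) (y : H9), x.1 = y.1 → IsConj b0 y → Commute k (ψ x) → Commute k (ψ zN) :=
    fun x y e1 e c => by
      obtain ⟨n, rfl⟩ := (h.base.ufB.of_isConj e).comm (h.eq e1 ▸ c)
      refine comm_of_cop h3 hk hz ?_
      rw [h.z, hcj rfl, ← map_inv, ← map_mul]
      exact hpow (J9_cube _ (mul_mem (J9_normal.conj_mem _ pd! _) pd!))
  rcases e with e | e | e
  rotate_left
  · exact k1 _ (a3 * a1) pd! pd! e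
  · exact k1 _ (a3 * a1⁻¹) pd! pd! e
  obtain ⟨x, hx⟩ := h.cz (g := (φ u0)⁻¹ * k * (φ u0)⁻¹⁻¹) (by
    have := Commute.cj e (φ u0)⁻¹
    rw [← h.fe (l := zN) (l' := wN) pd! pd!] at this
    simpa [mul_assoc] using this)
  obtain rfl : k = 𝐟 x := by simp [hx, mul_assoc]
  have fw : 𝐟 wN = ψ zN := h.fe pd! pd!
  have c1 : 𝐟 (wN * x * wN⁻¹) ∈ T := by
    rw [← hcj rfl, fw]; exact conj_mem_of_mem_normalizer hz hk
  have c2 : 𝐟 (wN⁻¹ * x * wN⁻¹⁻¹) ∈ T := by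
    rw [← hcj rfl, map_inv, fw]; exact conj_mem_of_mem_normalizer (inv_mem hz) hk
  rcases l9_words x (hcomm h.finj (h.fe (l := zN) (l' := wN) pd! pd! ▸ e)) with
    rfl | ⟨j, hj, e1⟩ | ⟨g, hg, g1, g3⟩
  · simp
  · exfalso
    have : 𝐟 (j * x * j⁻¹) ∈ T := by
      simp only [List.mem_cons, List.not_mem_nil, or_false] at hj
      rcases hj with rfl | rfl | rfl
      exacts [by simpa using hk, c1, c2]
    simp only [List.mem_cons, List.not_mem_nil, or_false] at e1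
    rcases e1 with e1 | e1 | e1 <;> rw [e1] at this
    · have := Commute.cj (mem_cent.1 (hT this).1) (ψ x3)
      rw [hcj (show x3 * fz * x3⁻¹ = fz from pd!), ← h.fe (l := tN) (l' := x3) pd! pd!,
        hcj (show tN * p3 * tN⁻¹ = p4 from pd!)] at this
      exact n this
    · exact n (mem_cent.1 (hT this).1)
    · exact h.n5 (mem_cent.1 (hT this).2)
  · have : 𝐟 g ∈ T := by
      simp only [List.mem_cons, List.not_mem_nil, or_false] at hg
      rcases hg with rfl | rfl | rfl <;> rw [map_mul, map_mul, map_mul]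
      exacts [mul_mem (mul_mem (mul_mem hk hk) c1) c2, mul_mem (mul_mem (mul_mem hk hk) c2) c1,
        mul_mem (mul_mem (mul_mem hk c1) hk) c2]
    refine absurd (eq_one_of_cop h3 ?_ (hpow g3)) (hne1 h.finj g1)
    rw [map_pow, map_pow, map_pow]
    exact pow_mem (pow_mem (pow_mem this _) _) _

omit [Finite G] in
theorem zx : IsConj (ψ fz) (ψ x3) := (ψ.map_isConj (show IsConj fz tN from pd!)).trans (by
  rw [h.eq (l := tN) (k := t0) pd!, h.eq (l := x3) (k := τ0) pd!]; exact φ.map_isConj pd!)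

theorem nst {s : L9} (e : IsConj sN s) : ¬ IsConj (ψ fz) (ψ s) := fun k =>
  not_fused (t := φ t0) (s := φ s0) (x := φ a1) (y := φ b0)
    (not_nine h.base.inj pd! pd! pd! (fun _ => h.base.cb) pd!) (hpow pd!) (hne1 h.base.inj pd!)
    (hpow pd!) (hne1 h.base.inj pd!) (Commute.map pd! φ) (Commute.map pd! φ)
    (map_inv φ b0 ▸ φ.map_isConj pd!) h.base.nab (by
      rw [← h.eq (l := tN) (k := t0) pd!]
      refine (ψ.map_isConj (show IsConj tN fz from pd!)).trans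
        (k.trans ((ψ.map_isConj e.symm).trans ?_))
      rw [h.eq (l := sN) (k := w0) pd!]; exact φ.map_isConj pd!)

theorem not_le : ¬ centralizer {ψ fz} ⊓ centralizer {ψ p5} ≤ ψ.range := fun hle => by
  have hN : 𝐍[(centralizer {fz} ⊓ centralizer {x3}).map ψ] ≤ ψ.range := fun g hg => by
    have k : ∀ s : L9, s ∈ centralizer {fz} ⊓ centralizer {x3} → s ^ 2 = 1 → s ≠ 1 → IsConj sN s →
        ∃ y ∈ [x3 * p5, x3 * fz * p5, x3 * fz], g * ψ s * g⁻¹ = ψ y := fun s hs s2 s1 e => by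
      obtain ⟨y, hy, e1⟩ := conj_mem_of_mem_normalizer hg (x := ψ s) ⟨s, hs, rfl⟩
      have c : IsConj (ψ s) (ψ y) := isConj_iff.2 ⟨g, e1.symm⟩
      rcases (l9_T y (mem_cent.1 hy.1) (mem_cent.1 hy.2)).2 (by
        rw [← pow_two]; exact pow_of_isConj h.inj c s2) with e2 | e2 | e2 | e2
      exacts [absurd e2 (ne_one_of_isConj h.inj c s1), ⟨y, e2, e1.symm⟩,
        absurd ((ψ.map_isConj e2).trans c.symm) (h.nst e),
        absurd (h.zx.trans ((ψ.map_isConj e2).trans c.symm)) (h.nst e)]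
    obtain ⟨y1, h1, e1⟩ := k (x3 * p5) pd! pd! pd! pd!
    obtain ⟨y2, h2, e2⟩ := k (x3 * fz * p5) pd! pd! pd! pd!
    obtain ⟨y3, h3, e3⟩ := k (x3 * fz) pd! pd! pd! pd!
    have ne : ∀ {s t y y' : L9}, g * ψ s * g⁻¹ = ψ y → g * ψ t * g⁻¹ = ψ y' → s ≠ t → y ≠ y' :=
      fun a b n e => n (h.inj (mul_left_cancel (mul_right_cancel (a.trans (e ▸ b.symm)))))
    obtain ⟨m, a, b⟩ := l9_F y1 h1 y2 h2 y3 h3 (ne e1 e2 pd!) (ne e2 e3 pd!) (ne e1 e3 pd!)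
    have c : ∀ {v s t y y' : L9}, g * ψ s * g⁻¹ = ψ y → g * ψ t * g⁻¹ = ψ y' → v = s * t →
        m * v * m⁻¹ = y * y' → (ψ m)⁻¹ * g ∈ centralizer {ψ v} := fun {v s t y y'} a b e e' =>
      mem_cent.2 (comm_of_conj (by
        rw [show (ψ m)⁻¹ * g * ψ v * ((ψ m)⁻¹ * g)⁻¹ = (ψ m)⁻¹ * (g * ψ v * g⁻¹) * ψ m by group, e,
          map_mul, ← conj_mul, a, b, ← map_mul, ← e', ← hcj rfl, ← map_mul ψ s, ← e]
        group))
    exact (mul_mem_cancel_left (inv_mem (rng ψ m))).1 (hle ⟨c e1 e2 pd! a, c e2 e3 pd! b⟩)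
  have hT : IsSyl 2 ((centralizer {fz} ⊓ centralizer {x3}).map ψ) ⊤ := by
    refine isSyl_of_isSyl_normalizer ⟨le_inf le_top le_normalizer, IsPGroup.map
      (isPGroup_iff.2 fun y hy => ⟨2, (l9_T y (mem_cent.1 (mem_inf.1 hy).1)
        (mem_cent.1 (mem_inf.1 hy).2)).1⟩) ψ,
      fun R _ _ hR r hr => ?_⟩
    obtain ⟨n, rfl⟩ := hN (hR hr).2
    have k : ∀ y ∈ centralizer {fz} ⊓ centralizer {x3},
        n * y * n⁻¹ ∈ centralizer {fz} ⊓ centralizer {x3} := fun y hy =>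
      (mem_map_iff_mem h.inj).1 (by
        rw [← hcj rfl]; exact conj_mem_of_mem_normalizer (hR hr).2 ⟨y, hy, rfl⟩)
    exact ⟨n, l9_N n (k _ pd!) (k _ pd!) (k _ pd!), rfl⟩
  obtain ⟨n, hn, e⟩ := burn_fus hT
    (by rintro _ ⟨y, hy, rfl⟩; exact mem_cent.2 ((mem_cent.1 hy.1).map ψ))
    (by rintro _ ⟨y, hy, rfl⟩; exact mem_cent.2 ((mem_cent.1 hy.2).map ψ)) h.zx
  obtain ⟨m, rfl⟩ := hN hn
  exact absurd (isConj_iff.2 ⟨m, hcj' h.inj e⟩) pd!

theorem moore : MooreRel ![ψ zN, 𝐟 p4, ψ x3, ψ x4, ψ x5, ψ x6, ψ x7] := by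
  have c := h.four.resolve_right h.not_le
  have k : ∀ {a b : L9} {n : ℕ} (g : L9 →* G), (a * b) ^ n = 1 → (g a * g b) ^ n = 1 :=
    fun g e => by rw [← map_mul, ← map_pow, e, map_one]
  have c7 : (𝐟 p4 * ψ x7) ^ 2 = 1 := h.fe (l := l7) (l' := x7) pd! pd! ▸ k 𝐟 pd!
  have c5 : (𝐟 p4 * ψ x5) ^ 2 = 1 := by
    have : Commute (𝐟 p4) (ψ x5) := by
      rw [show x5 = x7 * fz from pd!, map_mul]
      exact (commute_of_sq (hsq pd!) (hsq pd!) c7).mul_right c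
    rw [this.mul_pow, hpow pd!, hpow pd!, one_mul]
  refine ⟨fun i hi => ?_, fun i hi => ?_, fun i j e => ?_, fun i j e => ?_⟩
  · fin_cases i <;> simp only [Nat.succ_ne_zero, one_ne_zero] at hi
    exact hpow (φ := ψ) pd!
  · fin_cases i
    · simp at hi
    · exact hpow (φ := 𝐟) pd!
    all_goals exact hpow (φ := ψ) pd!
  · fin_cases i <;> fin_cases j <;> (try (exfalso; revert e; decide))
    · exact h.fe (l := wN) (l' := zN) pd! pd! ▸ k 𝐟 pd!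
    · exact h.fe (l := tN) (l' := x3) pd! pd! ▸ k 𝐟 pd!
    all_goals exact k ψ pd!
  · fin_cases i <;> fin_cases j <;> (try (exfalso; revert e; decide))
    iterate 5 exact k ψ pd!
    · exact h.fe (l := l4) (l' := x4) pd! pd! ▸ k 𝐟 pd!
    · exact c5
    · exact h.fe (l := x6) (l' := x6) pd! pd! ▸ k 𝐟 pd!
    · exact c7
    all_goals exact k ψ pd!

theorem fin9 : ∃ θ : Al →* G, Fin9 θ := by
  obtain ⟨θ, hθ⟩ : ∃ θ : Al →* G, ∀ i, θ (![m0, m1, m2, m3, m4, m5, m6] i) =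
      ![ψ zN, 𝐟 p4, ψ x3, ψ x4, ψ x5, ψ x6, ψ x7] i :=
    mooreGen9 ▸ exists_hom_alt_of_mooreRel h.moore
  have hz : θ z9 = ψ zN := hθ 0
  have e1 : θ m0 = φ a1 := hz.trans h.z
  have e2 : θ (m2 * m3) = φ a2 := by
    rw [map_mul, show θ m2 = ψ x3 from hθ 2, show θ m3 = ψ x4 from hθ 3, ← map_mul]
    exact h.eq pd!
  have e3 : θ (m5 * m6) = φ a3 := by
    rw [map_mul, show θ m5 = ψ x6 from hθ 5, show θ m6 = ψ x7 from hθ 6, ← map_mul]
    exact h.eq pd!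
  have hy : θ y9 = φ b0 := by
    rw [show y9 = m0 * (m2 * m3) from pd!, map_mul, e1, e2]; exact hmul pd!
  have hc : θ c9 = φ c0 := by
    rw [show c9 = y9 * (m5 * m6) from pd!, map_mul, hy, e3]; exact hmul pd!
  have inj : Function.Injective θ := inj_of_alt (by norm_num) θ (x := z9) (hz ▸ hne1 h.inj pd!)
  have hr : ψ.range ≤ θ.range := by
    rw [← range_eq_of_le (φ := θ.comp (inclusion inf_le_left))
      (inj.comp (inclusion_injective _)) h.inj]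
    · rintro _ ⟨x, rfl⟩; exact ⟨_, rfl⟩
    · rintro _ ⟨x, rfl⟩
      refine h.nz.2 ?_
      rw [← hz, MonoidHom.comp_apply, ← map_inv θ, ← map_mul, ← map_mul, ← map_inv θ]
      exact (l9_norm x).imp (fun e => congrArg θ (Subtype.ext e)) fun e => congrArg θ (Subtype.ext e)
  have hH : φ.range ≤ θ.range := by
    let ι : H9 →* G := θ.comp (inclusion inf_le_left)
    have hJ : ∀ j ∈ J9, ι j = φ j := fun j hj => by
      obtain ⟨i, hi, j, hj', k, hk, rfl⟩ := J9_word j hj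
      have m : ∀ a, ι a = φ a → ∀ i ∈ [1, a, a⁻¹], ι i = φ i := fun a ha => by simp [ha]
      rw [map_mul, map_mul, map_mul, map_mul, m a1 e1 i hi,
        m a2 ((congrArg θ (Subtype.ext (show a2.1 = (m2 * m3).1 from pd!))).trans e2) j hj',
        m a3 ((congrArg θ (Subtype.ext (show a3.1 = (m5 * m6).1 from pd!))).trans e3) k hk]
    rw [← range_eq_of_le (φ := ι) (inj.comp (inclusion_injective _)) h.base.inj]
    · rintro _ ⟨x, rfl⟩; exact ⟨_, rfl⟩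
    · rintro _ ⟨x, rfl⟩
      refine h.base.nJ (mem_normalizer_fintype ?_)
      rintro _ ⟨j, hj, rfl⟩
      rw [← hJ j hj, hcj rfl, hJ _ (J9_normal.conj_mem j hj x)]
      exact ⟨_, J9_normal.conj_mem j hj x, rfl⟩
  exact ⟨θ, inj, fun g e => hr (h.cz (hz ▸ e)), fun g e => hH (h.base.cb (hy ▸ e)),
    fun g e => hH (h.base.cc (hc ▸ e)), by rw [hz, h.z, hy]; exact h.base.nab,
    by rw [hz, h.z, hc]; exact h.base.nac, by rw [hy, hc]; exact h.base.nbc⟩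

end Core

theorem Base.alt {φ : H9 →* G} (h : Base φ) :
    (∀ g, Commute g (φ a1) → g ∈ φ.range) ∨ Nonempty (G ≃* Al) :=
  h.dich.imp_right fun ⟨θ, hs, hk⟩ => by
    obtain ⟨ψ, h1, h2, h3⟩ := h.exists_psi θ hs hk
    exact (Core.fin9 ⟨h, h1, h2, h3⟩).choose_spec.iso

end Cfsg.Agent.A9
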