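import Cfsg.Agent.A9.Setup
import Cfsg.Agent.KSG.AutS6
import Cfsg.Agent.Transfer.AbelianHall

/-!
The normalizer of `⟨a⟩` lies in `H` or is the stabilizer of a triple in `A₉`.
-/

set_option autoImplicit false
set_option synthInstance.maxSize 100000

namespace Cfsg.Agent.A9

open Subgroup Cfsg Cfsg.Agent.PLocal.Amb Cfsg.Agent.Loc3 Cfsg.Agent.Comp

/-- the stabilizer of `{0,1,2}` in `A₉` -/
abbrev L9 : Subgroup S9 := Al ⊓ Col 9 0x111111000

abbrev M9 : Subgroup S9 := H9 ⊓ Col 9 0x111111000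

set_option synthInstance.checkSynthOrder false in
instance (priority := 30000) bdM9 {p : M9 → Prop} {b : Bool}
    [h : BD (∀ k : H9, ∀ e : k.1 ∈ Col 9 0x111111000, p ⟨k.1, k.2, e⟩) b] : BD (∀ σ, p σ) b :=
  ⟨h.h.trans ⟨fun e σ => e ⟨σ.1, σ.2.1⟩ σ.2.2, fun e _ _ => e _⟩⟩

noncomputable section
abbrev z1 : M9 := el M9 0x876543021
abbrev z2 : M9 := el M9 0x876354210
abbrev z3 : M9 := el M9 0x687543210
abbrev τ1 : M9 := el M9 0x876534201
abbrev w1 : M9 := el M9 0x543876201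
abbrev iH : M9 →* H9 := inclusion inf_le_left
abbrev iL : M9 →* L9 := inclusion (inf_le_inf_right _ inf_le_left)
end

theorem M9_word : ∀ m : M9, ∃ d ∈ [1, τ1, w1, τ1 * w1, w1 * τ1, τ1 * w1 * τ1, w1 * τ1 * w1,
    τ1 * w1 * τ1 * w1], Commute (m * d) z1 ∧ Commute (m * d) z2 := pd!

theorem M9_J {m : M9} (h : Commute m z1 ∧ Commute m z2) : iH m ∈ J9 :=
  ⟨mem_cent.2 (h.1.map iH), mem_cent.2 (h.2.map iH)⟩

theorem M9_gen {E : Subgroup M9} (h1 : z1 ∈ E) (h2 : z2 ∈ E) (h3 : τ1 ∈ E) (h4 : w1 ∈ E) (m : M9) :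
    m ∈ E := by
  obtain ⟨d, hd, e⟩ := M9_word m
  have hd' : d ∈ E := by
    simp only [List.mem_cons, List.not_mem_nil, or_false] at hd
    rcases hd with rfl | rfl | rfl | rfl | rfl | rfl | rfl | rfl <;>
      repeat' first | exact one_mem _ | exact h3 | exact h4 | apply mul_mem
  rw [← mul_mem_cancel_right hd']
  obtain ⟨i, hi, j, hj, k, hk, e1⟩ := (show ∀ x : M9, Commute x z1 ∧ Commute x z2 →
    ∃ i ∈ [1, z1, z1⁻¹], ∃ j ∈ [1, z2, z2⁻¹], ∃ k ∈ [1, z3, z3⁻¹], x = i * j * k from pd!) _ e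
  have m : ∀ a ∈ E, ∀ i ∈ [1, a, a⁻¹], i ∈ E := fun a ha i hi => by
    simp only [List.mem_cons, List.not_mem_nil, or_false] at hi
    rcases hi with rfl | rfl | rfl
    exacts [one_mem _, ha, inv_mem ha]
  rw [e1]
  exact mul_mem (mul_mem (m _ h1 i hi) (m _ h2 j hj)) (m _ ((show w1 * z2 * w1⁻¹ = z3 from pd!) ▸
    mul_mem (mul_mem h4 h2) (inv_mem h4)) k hk)

section Model
open Equiv Equiv.Perm

/-- `S₃ × S₆` inside `S₉` -/
def j36 : Perm (Fin 3) × Perm (Fin 6) →* S9 :=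
  (finSumFinEquiv (m := 3) (n := 6)).permCongrHom.toMonoidHom.comp (sumCongrHom (Fin 3) (Fin 6))

theorem j36_inj : Function.Injective j36 :=
  (finSumFinEquiv (m := 3) (n := 6)).permCongrHom.injective.comp sumCongrHom_injective

theorem sign_j36 (x) : sign (j36 x) = sign x.1 * sign x.2 := by
  change sign ((finSumFinEquiv (m := 3) (n := 6)).permCongr (Perm.sumCongr x.1 x.2)) = _
  rw [sign_permCongr, sign_sumCongr]

theorem range_j36 : j36.range = Col 9 0x111111000 := by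
  let E : Fin 3 ⊕ Fin 6 ≃ Fin 9 := finSumFinEquiv
  have c1 : ∀ i, ap 0x111111000 (E (Sum.inl i)) = 0 := by decide +kernel
  have c2 : ∀ i, ap 0x111111000 (E (Sum.inr i)) = 1 := by decide +kernel
  ext σ
  constructor
  · rintro ⟨⟨a, b⟩, rfl⟩ i
    obtain ⟨i, rfl⟩ := E.surjective i
    change ap _ (E.permCongr (Perm.sumCongr a b) (E i)) = _
    rcases i with i | i <;> simp [c1, c2]
  · intro h
    obtain ⟨x, hx⟩ := mem_sumCongrHom_range_of_perm_mapsTo_inl (σ := E.permCongrHom.symm σ) (by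
      rintro _ ⟨i, rfl⟩
      have := h (E (Sum.inl i))
      obtain ⟨k, hk⟩ := E.surjective (σ (E (Sum.inl i)))
      rcases k with k | k
      · exact ⟨k, by simp [← hk]⟩
      · rw [← hk, c1, c2] at this; exact absurd this (by norm_num))
    exact ⟨x, (congrArg E.permCongrHom hx).trans (E.permCongrHom.apply_symm_apply σ)⟩

theorem card_L9 : Nat.card L9 ≤ 2160 := by
  have h1 : Nat.card (Col 9 0x111111000) = 4320 := by
    rw [← range_j36, ← Nat.card_congr (j36.ofInjective j36_inj).toEquiv, Nat.card_prod,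
      Nat.card_perm, Nat.card_perm]
    simp [Nat.factorial]
  obtain ⟨k, hk⟩ := card_dvd_of_le (inf_le_right : L9 ≤ Col 9 0x111111000)
  have h2 : Nat.card L9 ≠ 4320 := fun e => absurd ((eq_of_le_of_card_ge
    (inf_le_right : L9 ≤ Col 9 0x111111000) (h1.trans e.symm).le).ge (show swap 0 1 ∈ _ from pd!)) pd!
  rw [h1] at hk
  change 4320 = Nat.card L9 * k at hk
  have : k ≠ 1 := by rintro rfl; omega
  have : k ≠ 0 := by rintro rfl; omega
  nlinarith [show 2 ≤ k by omega]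

theorem s6_norm : ∀ W : Perm (Fin 6), W * W = 1 →
    Commute (W * (swap 0 1 * swap 1 2) * W⁻¹) (swap 0 1 * swap 1 2) →
    W * (swap 0 1 * swap 1 2) * W⁻¹ ∉ [swap 0 1 * swap 1 2, (swap 0 1 * swap 1 2)⁻¹] →
    ∀ T : Perm (Fin 6), T * (swap 0 1 * swap 1 2) * T⁻¹ = (swap 0 1 * swap 1 2)⁻¹ → T * T = 1 →
    Commute T (W * (swap 0 1 * swap 1 2) * W⁻¹) → ∃ k : Perm (Fin 6),
    Commute k (swap 0 1 * swap 1 2) ∧ k * T * k⁻¹ = swap 0 1 ∧
      k * W * k⁻¹ = swap 0 3 * swap 1 4 * swap 2 5 := pd!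

theorem s6_aut {A T W : Perm (Fin 6)} (a3 : A ^ 3 = 1) (a1 : A ≠ 1) (w2 : W * W = 1)
    (c : Commute (W * A * W⁻¹) A) (n : W * A * W⁻¹ ∉ [A, A⁻¹]) (t : T * A * T⁻¹ = A⁻¹)
    (t2 : T * T = 1) (c' : Commute T (W * A * W⁻¹)) : ∃ e : Perm (Fin 6) ≃* Perm (Fin 6),
    e A = swap 0 1 * swap 1 2 ∧ e T = swap 0 1 ∧ e W = swap 0 3 * swap 1 4 * swap 2 5 := by
  obtain ⟨e, he⟩ : ∃ e : Perm (Fin 6) ≃* Perm (Fin 6), e A = swap 0 1 * swap 1 2 := by
    have k : ∀ B : Perm (Fin 6), B.cycleType = {3} →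
        ∃ g : Perm (Fin 6), g * B * g⁻¹ = swap 0 1 * swap 1 2 := fun B hB =>
      isConj_iff.1 (isConj_iff_cycleType_eq.2 (hB.trans (by decide)))
    rcases KSG.cycleType_of_orderOf_three_of_card_six (by simp) (orderOf_three a3 a1) with e | e
    · obtain ⟨g, hg⟩ := k A e
      exact ⟨MulAut.conj g, hg⟩
    · obtain ⟨θ, hθ⟩ := KSG.exists_outer_fin_six
      obtain ⟨g, hg⟩ := k _ (KSG.isThreeCycle_map_of_outer (by simp) θ hθ e)
      exact ⟨θ.trans (MulAut.conj g), hg⟩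
  obtain ⟨k, k1, k2, k3⟩ := s6_norm (e W) (by rw [← map_mul, w2, map_one])
    (by simpa [← he] using c.map e) (by
      rw [← he, ← map_inv, ← map_inv, ← map_mul, ← map_mul]
      simpa only [List.mem_cons, List.not_mem_nil, or_false, e.injective.eq_iff] using n)
    (e T) (by rw [← he, ← map_inv, ← map_inv, ← map_mul, ← map_mul, t])
    (by rw [← map_mul, t2, map_one]) (by simpa [← he] using c'.map e)
  exact ⟨e.trans (MulAut.conj k), by simpa [he] using conj_of_comm k1, k2, k3⟩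

end Model

universe u

variable {G : Type u} [Group G] [Finite G]

namespace Base
variable {φ : H9 →* G} (h : Base φ)
include h

local notation "𝐉" => Subgroup.map φ J9
local notation "𝐘" => 𝐍[zpowers (φ a1)]

theorem mem_Y {g : G} : g ∈ 𝐘 ↔ g * φ a1 * g⁻¹ = φ a1 ∨ g * φ a1 * g⁻¹ = (φ a1)⁻¹ :=
  mem_norm_three (hpow pd!) (hne1 h.inj pd!)

/-- the part of `H` in `Y` -/
noncomputable def ι : M9 →* 𝐘 := (φ.comp iH).codRestrict _ fun m => h.mem_Y.2 (by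
  rcases (show ∀ m : M9, m * z1 * m⁻¹ = z1 ∨ m * z1 * m⁻¹ = z1⁻¹ from pd!) m with e | e
  exacts [Or.inl (hcj (φ := φ.comp iH) e), Or.inr ((hcj (φ := φ.comp iH) e).trans (map_inv _ _))])

theorem ι_val (m : M9) : (h.ι m).1 = φ (iH m) := rfl

theorem ι_surj {g : 𝐘} (hg : g.1 ∈ φ.range) : ∃ m, h.ι m = g := by
  obtain ⟨k, hk⟩ := hg
  refine ⟨⟨k.1, k.2, (show ∀ k : H9, k * a1 * k⁻¹ = a1 ∨ k * a1 * k⁻¹ = a1⁻¹ →
    k.1 ∈ Col 9 0x111111000 from pd!) k ?_⟩, Subtype.ext hk⟩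
  have := h.mem_Y.1 g.2
  rw [← hk, ← map_inv φ a1] at this
  exact this.imp (hcj' h.inj) (hcj' h.inj)

theorem J_le_Y : 𝐉 ≤ 𝐘 := fun x hx =>
  h.mem_Y.2 (Or.inl (conj_of_comm (Jc x hx _ ⟨a1, pd!, rfl⟩)))

theorem dich : (∀ g, Commute g (φ a1) → g ∈ φ.range) ∨ ∃ θ : 𝐘 →* Equiv.Perm (Fin 6),
    Function.Surjective θ ∧ ∀ g, θ g = 1 ↔ g.1 ∈ zpowers (φ a1) := by
  let π := QuotientGroup.mk' ((zpowers (φ a1)).subgroupOf 𝐘)
  have hs : Function.Surjective π := QuotientGroup.mk'_surjective _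
  have hk : ∀ g, π g = 1 ↔ g.1 ∈ zpowers (φ a1) := fun g => QuotientGroup.eq_one_iff g
  have aJ : zpowers (φ a1) ≤ 𝐉 := zpowers_le.2 ⟨a1, pd!, rfl⟩
  have cm : ((𝐉.subgroupOf 𝐘).map π).comap π = 𝐉.subgroupOf 𝐘 :=
    comap_map_eq_self fun g hg => aJ ((hk g).1 hg)
  have mem : ∀ g, π g ∈ (𝐉.subgroupOf 𝐘).map π ↔ g.1 ∈ 𝐉 := fun g => by
    rw [← mem_comap, cm, mem_subgroupOf]
  have nrm : ∀ g, π g ∈ 𝐍[(𝐉.subgroupOf 𝐘).map π] ↔ g.1 ∈ φ.range := fun g => ⟨fun e =>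
    h.nJ (mem_normalizer_fintype fun p hp => (mem (g * ⟨p, h.J_le_Y hp⟩ * g⁻¹)).1 (by
      rw [map_mul, map_mul, map_inv]
      exact conj_mem_of_mem_normalizer e ((mem _).2 hp))), fun ⟨k, e⟩ =>
    mem_normalizer_fintype (by
      rintro _ ⟨p, hp, rfl⟩
      rw [← map_inv, ← map_mul, ← map_mul]
      exact (mem _).2 (conj_mem_of_mem_normalizer (e ▸ HJ k) hp))⟩
  have sy : IsSyl 3 ((𝐉.subgroupOf 𝐘).map π) ⊤ := by
    obtain ⟨P, hP⟩ := (h.syl_of (IsPGroup.of_card (n := 3) card_J9) le_rfl h.J_le_Y fun n hn _ => by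
      obtain ⟨m, e⟩ := h.ι_surj (g := ⟨_, hn⟩) (rng φ n)
      rw [← h.inj (congrArg Subtype.val e : φ (iH m) = φ n), ← map_pow]
      exact M9_J ((show ∀ m : M9, Commute (m ^ 4) z1 ∧ Commute (m ^ 4) z2 from pd!) m)).exists_sylow
    have := (isSyl_top P).map π
    rwa [hP, ← MonoidHom.range_eq_map, MonoidHom.range_eq_top.2 hs] at this
  have eqi : ∀ x y : M9, π (h.ι x) = π (h.ι y) → y⁻¹ * x ∈ [1, z1, z1⁻¹] := fun x y e => by
    rw [← inv_mul_eq_one, ← map_inv, ← map_inv, ← map_mul, ← map_mul, hk] at e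
    have := (hzp (φ := φ.comp iH) (a := z1) (h.inj.comp (inclusion_injective _)) pd!).1 e
    revert this
    generalize x⁻¹ * y = t, ht : x⁻¹ * y = t
    rw [show y⁻¹ * x = t⁻¹ by rw [← ht]; group]
    simp only [List.mem_cons, List.not_mem_nil, or_false]
    rintro (rfl | rfl | rfl) <;> simp
  refine (s6_of sy ?_ (fun g hg => ?_) (a := π (h.ι τ1)) (u := π (h.ι w1))
    ((nrm _).2 (rng φ _)) ((nrm _).2 (rng φ _)) (hsq (φ := π.comp h.ι) pd!)
    (hsq (φ := π.comp h.ι) pd!) ?_ ?_ (fun g hg => ?_) fun x hx x1 g hg => ?_).imp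
    (fun e g c => (nrm ⟨g, h.mem_Y.2 (Or.inl (conj_of_comm c))⟩).1 (@Pr.mem_nrm _ _ _ e _))
    fun ⟨e⟩ => ⟨e.toMonoidHom.comp π, e.surjective.comp hs, fun g => by simp [← hk]⟩
  · have := Grp.card_comap_of_surjective π hs ((𝐉.subgroupOf 𝐘).map π)
    rw [cm, Nat.card_congr (subgroupOfEquivOfLe h.J_le_Y).toEquiv, h.card_map, card_J9,
      QuotientGroup.ker_mk', Nat.card_congr (subgroupOfEquivOfLe le_normalizer).toEquiv,
      Nat.card_zpowers, orderOf_three (hpow pd!) (hne1 h.inj pd!)] at this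
    omega
  · obtain ⟨g, rfl⟩ := hs g
    obtain ⟨m, rfl⟩ := h.ι_surj ((nrm g).1 (centralizer_le_normalizer' _ hg))
    have k : ∀ j : M9, iH j ∈ J9 → j⁻¹ * (m * j * m⁻¹) ∈ [1, z1, z1⁻¹] := fun j hj => eqi _ _ (by
      simp only [map_mul, map_inv]
      exact conj_of_comm (mem_centralizer_iff.1 hg _ ((mem _).2 ⟨_, hj, rfl⟩)).symm)
    exact (mem _).2 ⟨_, M9_J ((show ∀ m : M9, z2⁻¹ * (m * z2 * m⁻¹) ∈ [1, z1, z1⁻¹] →
      z3⁻¹ * (m * z3 * m⁻¹) ∈ [1, z1, z1⁻¹] → Commute m z1 ∧ Commute m z2 from pd!) m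
      (k z2 (M9_J pd!)) (k z3 (M9_J pd!))), rfl⟩
  · rw [← map_mul, ← map_mul, ← map_pow, ← map_pow, mem, ι_val, h.mem_map]
    exact fun e => absurd (hcomm (φ := iH) (y := z2) (inclusion_injective _) (mem_cent.1 e.2)) pd!
  · rw [← map_mul, ← map_mul]; exact hpow (φ := π.comp h.ι) pd!
  · obtain ⟨g, rfl⟩ := hs g
    obtain ⟨m, rfl⟩ := h.ι_surj ((nrm g).1 hg)
    obtain ⟨d, hd, e⟩ := M9_word m
    refine ⟨π (h.ι d), ?_, by rw [← map_mul, ← map_mul]; exact (mem _).2 ⟨_, M9_J e, rfl⟩⟩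
    simp only [List.mem_cons, List.not_mem_nil, or_false] at hd
    rcases hd with rfl | rfl | rfl | rfl | rfl | rfl | rfl | rfl <;>
      (try simp only [map_mul, map_one]) <;>
      repeat' first | exact one_mem _ | exact mem_l | exact mem_r | apply mul_mem
  · obtain ⟨g, rfl⟩ := hs g
    obtain ⟨x, rfl⟩ := hs x
    obtain ⟨j, hj, e⟩ := (mem x).1 hx
    rcases (show ∀ j : H9, j ∈ J9 → j ∈ [1, a1, a1⁻¹] ∨ ∃ i ∈ [1, a1, a1⁻¹],
      IsConj b0 (j * i) from pd!) j hj with e1 | ⟨i, hi, e1⟩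
    · exact absurd ((hk x).2 (e ▸ (hzp h.inj pd!).2 e1)) x1
    refine (nrm g).2 ((h.ufB.of_isConj e1).2 g (map_le_range _ J9 ?_))
    have hi' := (hzp h.inj pd!).2 hi
    have := (mem (g * x * g⁻¹)).1 (by
      rw [map_mul, map_mul, map_inv, conj_of_comm (mem_cent.1 hg)]; exact hx)
    rw [map_mul, e, ← conj_mul]
    exact mul_mem this (aJ (conj_mem_of_mem_normalizer g.2 hi'))

theorem τc {g : 𝐘} (e : g.1 * φ a1 * g.1⁻¹ = (φ a1)⁻¹) : Commute (h.ι τ1 * g).1 (φ a1) :=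
  comm_of_conj (by
    rw [coe_mul, ι_val, mul_inv_rev, mul_assoc _ g.1, mul_assoc _ (_ * _), ← mul_assoc _ g.1⁻¹,
      e, ← mul_assoc, ← map_inv φ a1]
    exact hcj (show τ0 * a1⁻¹ * τ0⁻¹ = a1 from pd!))

theorem exists_rho : ∃ ρ : 𝐘 →* Equiv.Perm (Fin 3), ρ (h.ι z1) = Equiv.swap 0 1 * Equiv.swap 1 2 ∧
    ρ (h.ι z2) = 1 ∧ ρ (h.ι τ1) = Equiv.swap 0 1 ∧ ρ (h.ι w1) = Equiv.swap 0 1 ∧
    ∀ g : 𝐘, Commute g.1 (φ a1) → Equiv.Perm.sign (ρ g) = 1 := by
  have hn : 𝐘 ≤ 𝐍[𝐎[3, centralizer {φ a1}]] := by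
    rw [← centralizer_zpowers]
    exact (normalizer_le_normalizer_centralizer _).trans (normalizer_le_normalizer_pRes _ _)
  have na : φ a1 ∉ 𝐎[3, centralizer {φ a1}] := fun e => by
    obtain ⟨P, hP⟩ := h.sylA.exists_sylow
    have := (Transfer.isComplement'_pResidual_of_comm P ⟨⟨fun a b => Subtype.ext (Subtype.ext
      (Jc _ (mem_subgroupOf.1 (hP.le a.2)) _ (mem_subgroupOf.1 (hP.le b.2))))⟩⟩).disjoint
    rw [← pRes_subgroupOf] at this
    exact hne1 h.inj (show a1 ≠ 1 from pd!) (congrArg Subtype.val (disjoint_def.1 this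
      (x := ⟨φ a1, mem_cent.2 (Commute.refl _)⟩) e ⟨hP.ge ⟨a1, pd!, rfl⟩,
        mem_centralizer_iff.2 fun g _ => Subtype.ext (mem_cent.1 g.2)⟩))
  have m2 : ∀ m : M9, Commute m z1 → m ^ 4 = 1 → φ (iH m) ∈ 𝐎[3, centralizer {φ a1}] :=
    fun m c e => mem_pRes (mem_cent.2 (c.map (φ.comp iH))) (Nat.Coprime.coprime_dvd_left
      (orderOf_dvd_of_pow_eq_one (hpow (φ := φ.comp iH) e)) (by norm_num))
  have sup := h.sylA.pRes_sup
  have le := pRes_le 3 (centralizer {φ a1})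
  generalize 𝐎[3, centralizer {φ a1}] = K at hn na m2 sup le
  have := normal_subgroupOf' hn
  let μ := QuotientGroup.mk' (K.subgroupOf 𝐘)
  have hk : ∀ g, μ g = 1 ↔ g.1 ∈ K := fun g => QuotientGroup.eq_one_iff g
  have e2 : μ (h.ι z2) = 1 := by
    have := congrArg (μ.comp h.ι)
      (show z2 = (τ1 * w1) ^ 2 * (z2 * (τ1 * w1) ^ 2 * z2⁻¹) from pd!)
    rw [map_mul, map_mul, map_mul, show μ.comp h.ι ((τ1 * w1) ^ 2) = 1 from
      (hk _).2 (m2 _ pd! pd!)] at this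
    simpa using this
  have ew : μ (h.ι w1) = μ (h.ι τ1) := by
    rw [show w1 = τ1 * (τ1 * w1) from pd!, map_mul, map_mul, (hk (h.ι (τ1 * w1))).2 (m2 _ pd! pd!),
      mul_one]
  have r1 : μ (h.ι z1) ^ 3 = 1 := hpow (φ := μ.comp h.ι) pd!
  have r2 : μ (h.ι τ1) * μ (h.ι τ1) = 1 := hsq (φ := μ.comp h.ι) pd!
  have r3 : μ (h.ι τ1) * μ (h.ι z1) * (μ (h.ι τ1))⁻¹ = (μ (h.ι z1))⁻¹ :=
    (hcj (φ := μ.comp h.ι) (show τ1 * z1 * τ1⁻¹ = z1⁻¹ from pd!)).trans (map_inv _ _)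
  have r4 : μ (h.ι z1) ≠ 1 := fun e => na ((hk _).1 e)
  have cz : ∀ g : 𝐘, Commute g.1 (φ a1) → μ g ∈ zpowers (μ (h.ι z1)) := fun g c => by
    obtain ⟨k, hk', _, ⟨j, hj, rfl⟩, e⟩ := (mem_sup_of_le_normalizer_left
      (h.J_le_Y.trans hn)).1 (sup.ge (mem_cent.2 c))
    obtain ⟨m, hm⟩ := h.ι_surj (g := ⟨_, h.J_le_Y ⟨j, hj, rfl⟩⟩) (rng φ j)
    have kY : k ∈ 𝐘 := h.mem_Y.2 (Or.inl (conj_of_comm (mem_cent.1 (le hk'))))
    rw [show g = ⟨k, kY⟩ * h.ι m from Subtype.ext (by rw [hm]; exact e), map_mul,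
      (hk ⟨k, kY⟩).2 hk', one_mul]
    have hj' : iH m ∈ J9 := h.inj (congrArg Subtype.val hm : φ (iH m) = φ j) ▸ hj
    obtain ⟨i, hi, j, hj, k, hk, rfl⟩ := (show ∀ x : M9, Commute x z1 ∧ Commute x z2 →
      ∃ i ∈ [1, z1, z1⁻¹], ∃ j ∈ [1, z2, z2⁻¹], ∃ k ∈ [1, z2, z2⁻¹], x = i * j * (w1 * k * w1⁻¹)
      from pd!) m ⟨hcomm (φ := iH) (inclusion_injective _) (mem_cent.1 hj'.1),
        hcomm (φ := iH) (inclusion_injective _) (mem_cent.1 hj'.2)⟩
    have t : ∀ j ∈ [1, z2, z2⁻¹], μ (h.ι j) = 1 := by simp [e2]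
    simp only [map_mul, t j hj, t k hk, map_inv, mul_one, mul_inv_cancel]
    simp only [List.mem_cons, List.not_mem_nil, or_false] at hi
    rcases hi with rfl | rfl | rfl <;> simp
  let D := Inv.Dihedral.dihedralHom r1 r2 r3
  have hD : Function.Bijective D := by
    refine ⟨Inv.Dihedral.dihedralHom_injective _ _ _ (orderOf_three r1 r4) fun e => ?_,
      MonoidHom.range_eq_top.1 (eq_top_iff.2 fun x _ => ?_)⟩
    · obtain ⟨n, hn⟩ := mem_zpowers_iff.1 e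
      exact Pr.ne_inv3 r1 r4 (by rw [← r3, ← hn, conj_of_comm (Commute.zpow_self _ n)])
    · obtain ⟨g, rfl⟩ := QuotientGroup.mk'_surjective _ x
      rw [Inv.Dihedral.dihedralHom_range]
      rcases h.mem_Y.1 g.2 with e | e
      · exact zpowers_le.2 mem_l (cz g (comm_of_conj e))
      · have := zpowers_le.2 (mem_l (b := μ (h.ι τ1))) (cz (h.ι τ1 * g) (h.τc e))
        rw [map_mul] at this
        exact (mul_mem_cancel_left mem_r).1 this
  let D' := Inv.Dihedral.dihedralHom (n := 3) (a := Equiv.swap (0 : Fin 3) 1 * Equiv.swap 1 2)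
    (s := Equiv.swap 0 1) (by decide) (by decide) (by decide)
  let E := MulEquiv.ofBijective D hD
  have k : ∀ g d, μ g = D d → (D'.comp E.symm.toMonoidHom).comp μ g = D' d := fun g d e =>
    congrArg D' (E.symm_apply_eq.2 e)
  have d0 : μ (h.ι τ1) = D (.sr 0) := by
    rw [Inv.Dihedral.dihedralHom_sr, ZMod.val_zero, pow_zero, mul_one]
  refine ⟨(D'.comp E.symm.toMonoidHom).comp μ, (k _ (.r 1) (pow_one _).symm).trans (by decide),
    (k _ 1 (by rw [e2, map_one])).trans (map_one _),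
    (k _ (.sr 0) d0).trans (by decide),
    (k _ (.sr 0) (ew.trans d0)).trans (by decide), fun g c => ?_⟩
  obtain ⟨n, hn⟩ := mem_zpowers_iff.1 (cz g c)
  rw [k g (.r 1 ^ n) (by rw [map_zpow, ← hn]; exact congrArg (· ^ n) (pow_one _).symm), map_zpow,
    map_zpow, show Equiv.Perm.sign (D' (.r 1)) = 1 by decide, one_zpow]

theorem exists_psi (θ : 𝐘 →* Equiv.Perm (Fin 6)) (hs : Function.Surjective θ)
    (hk : ∀ g, θ g = 1 ↔ g.1 ∈ zpowers (φ a1)) : ∃ ψ : L9 →* G, Function.Injective ψ ∧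
    ψ.range = 𝐘 ∧ ∀ m : M9, ψ (iL m) = φ (iH m) := by
  have inj : Function.Injective (φ.comp iH) := h.inj.comp (inclusion_injective _)
  have ne : ∀ x y : M9, y⁻¹ * x ∉ [1, z1, z1⁻¹] → θ (h.ι x) ≠ θ (h.ι y) := fun x y n e => n (by
    rw [eq_comm, ← inv_mul_eq_one, ← map_inv, ← map_inv, ← map_mul, ← map_mul, hk] at e
    exact (hzp (a := z1) inj pd!).1 e)
  have e3 : θ (h.ι w1) * θ (h.ι z2) * (θ (h.ι w1))⁻¹ = θ (h.ι z3) := hcj (φ := θ.comp h.ι) pd!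
  obtain ⟨e, e1, e2, e4⟩ := s6_aut (A := θ (h.ι z2)) (T := θ (h.ι τ1)) (W := θ (h.ι w1))
    (hpow (φ := θ.comp h.ι) pd!) (by simpa using ne z2 1 pd!) (hsq (φ := θ.comp h.ι) pd!)
    (e3 ▸ (show Commute z3 z2 from pd!).map (θ.comp h.ι)) (by
      rw [e3, ← map_inv, ← map_inv]
      simp only [List.mem_cons, List.not_mem_nil, or_false, not_or]
      exact ⟨ne _ _ pd!, ne _ _ pd!⟩)
    ((hcj (φ := θ.comp h.ι) (show τ1 * z2 * τ1⁻¹ = z2⁻¹ from pd!)).trans (map_inv _ _))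
    (hsq (φ := θ.comp h.ι) pd!) (e3 ▸ (show Commute τ1 z3 from pd!).map (θ.comp h.ι))
  replace hs : Function.Surjective (e.toMonoidHom.comp θ) := e.surjective.comp hs
  replace hk : ∀ g, e.toMonoidHom.comp θ g = 1 ↔ g.1 ∈ zpowers (φ a1) := fun g => by simp [← hk]
  change e.toMonoidHom.comp θ _ = _ at e1 e2 e4
  generalize e.toMonoidHom.comp θ = θ at hs hk e1 e2 e4
  obtain ⟨ρ, r1, r2, r3, r4, r5⟩ := h.exists_rho
  have tn : ¬ Commute (h.ι τ1).1 (φ a1) := fun c => absurd (hcomm (y := z1) inj c) pd!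
  have s1 : ∀ g : 𝐘, Commute g.1 (φ a1) → Equiv.Perm.sign (θ g) = 1 := fun g c => by
    have hn : ((centralizer {φ a1}).subgroupOf 𝐘).Normal := normal_subgroupOf' (by
      rw [← centralizer_zpowers]; exact normalizer_le_normalizer_centralizer _)
    have := hn.map θ hs
    have m : ∀ g : 𝐘, Commute g.1 (φ a1) → θ g ∈ ((centralizer {φ a1}).subgroupOf 𝐘).map θ :=
      fun g c => ⟨g, mem_cent.2 c, rfl⟩
    have le := Equiv.Perm.alternatingGroup_le_of_normal (N := ((centralizer {φ a1}).subgroupOf 𝐘).map θ)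
      (by simp) ⟨⟨_, m _ ((show Commute z2 z1 from pd!).map (φ.comp iH))⟩, 1, fun e =>
        absurd (e1.symm.trans (show _ = 1 from congrArg Subtype.val e)) (by decide)⟩
    refine (Int.units_eq_one_or _).resolve_right fun s => tn ?_
    obtain ⟨k, hk', e⟩ := (mul_mem_cancel_left (m g c)).1 (le (x := θ g * θ (h.ι τ1))
      (by rw [Equiv.Perm.mem_alternatingGroup, map_mul, s, e2]; decide))
    rw [← inv_mul_eq_one, ← map_inv, ← map_mul, hk] at e
    obtain ⟨n, hn⟩ := mem_zpowers_iff.1 e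
    simpa using (mem_cent.1 hk').mul_left (show Commute (k⁻¹ * h.ι τ1).1 (φ a1) from
      hn ▸ Commute.zpow_self _ n)
  let F : 𝐘 →* S9 := j36.comp (ρ.prod θ)
  have hF : Function.Injective F := (injective_iff_map_eq_one F).2 fun g e => by
    have e' := j36_inj (e.trans (map_one _).symm)
    rcases (mem_zpowers_three (hpow pd!)).1 ((hk g).1 (congrArg Prod.snd e')) with e | e | e
    · exact Subtype.ext e
    · exact absurd ((show g = h.ι z1 from Subtype.ext e) ▸ congrArg Prod.fst e' : ρ _ = 1)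
        (by rw [r1]; decide)
    · exact absurd ((show g = (h.ι z1)⁻¹ from Subtype.ext e) ▸ congrArg Prod.fst e' : ρ _ = 1)
        (by rw [map_inv, r1]; decide)
  have hr : F.range = L9 := by
    refine eq_of_le_of_card_ge ?_ (card_L9.trans ?_)
    · rintro _ ⟨g, rfl⟩
      refine ⟨(sign_j36 _).trans ?_, range_j36 ▸ ⟨_, rfl⟩⟩
      change Equiv.Perm.sign (ρ g) * Equiv.Perm.sign (θ g) = 1
      rcases h.mem_Y.1 g.2 with e | e
      · rw [r5 g (comm_of_conj e), s1 g (comm_of_conj e), mul_one]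
      · have c := h.τc e
        have c1 := r5 _ c
        have c2 := s1 _ c
        rw [map_mul, map_mul, r3, Equiv.Perm.sign_swap (by decide), neg_one_mul,
          neg_eq_iff_eq_neg] at c1
        rw [map_mul, map_mul, e2, Equiv.Perm.sign_swap (by decide), neg_one_mul,
          neg_eq_iff_eq_neg] at c2
        rw [c1, c2]; simp
    · have h1 := Grp.card_comap_of_surjective θ hs ⊤
      rw [show θ.ker = (zpowers (φ a1)).subgroupOf 𝐘 from Subgroup.ext hk, comap_top, card_top,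
        card_top, Nat.card_congr (subgroupOfEquivOfLe le_normalizer).toEquiv,
        Nat.card_zpowers, orderOf_three (hpow pd!) (hne1 h.inj pd!), Nat.card_perm] at h1
      rw [← Nat.card_congr (F.ofInjective hF).toEquiv, h1]
      simp [Nat.factorial]
  let E : 𝐘 ≃* L9 := (F.ofInjective hF).trans (MulEquiv.subgroupCongr hr)
  refine ⟨(𝐘).subtype.comp E.symm.toMonoidHom, (subtype_injective _).comp E.symm.injective,
    by rw [MonoidHom.range_comp, MonoidHom.range_eq_top.2 E.symm.surjective,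
      ← MonoidHom.range_eq_map, range_subtype], fun m => ?_⟩
  refine congrArg Subtype.val (E.symm_apply_eq.2 (Subtype.ext ?_) : E.symm (iL m) = h.ι m)
  refine M9_gen (E := M9.subtype.eqLocus (F.comp h.ι)) ?_ ?_ ?_ ?_ m <;>
    change _ = j36 (ρ _, θ _)
  · rw [r1, (hk _).2 (mem_zpowers _)]
    exact (show z1.1 = Equiv.swap 0 1 * Equiv.swap 1 2 from pd!).trans (by decide)
  · rw [r2, e1]
    exact (show z2.1 = Equiv.swap 3 4 * Equiv.swap 4 5 from pd!).trans (by decide)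
  · rw [r3, e2]
    exact (show τ1.1 = Equiv.swap 0 1 * Equiv.swap 3 4 from pd!).trans (by decide)
  · rw [r4, e4]
    exact (show w1.1 = Equiv.swap 0 1 * Equiv.swap 3 6 * Equiv.swap 4 7 * Equiv.swap 5 8
      from pd!).trans (by decide)

end Base

end Cfsg.Agent.A9
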