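import Cfsg.Agent.Loc3.Tools4
import Cfsg.Agent.Loc3.Alt8

/-!
The normalizer in `A₉` of the group generated by three disjoint 3-cycles, with enumeration.
-/

set_option autoImplicit false
set_option synthInstance.maxSize 100000

namespace Cfsg.Agent.A9

open Equiv Equiv.Perm Subgroup Cfsg.Agent.Loc3 Cfsg.Agent.Comp

abbrev S9 := Perm (Fin 9)
abbrev Al := alternatingGroup (Fin 9)

/-- the permutation with a given code -/
noncomputable def p9 (c : ℕ) (h : validB 9 c = true := by decide +kernel) : S9 :=
  dec ⟨c, validB_iff.1 h⟩

instance pv_p9 (c : ℕ) (h : validB 9 c = true) : PV (p9 c h) c := pvDec ⟨c, validB_iff.1 h⟩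

/-- the permutations preserving the blocks `012|345|678` -/
def Blk : Subgroup S9 where
  carrier := {σ | ∀ i j : Fin 9, (σ i).val / 3 = (σ j).val / 3 ↔ i.val / 3 = j.val / 3}
  mul_mem' := fun {a b} ha hb i j => (ha (b i) (b j)).trans (hb i j)
  one_mem' := fun _ _ => Iff.rfl
  inv_mem' := fun {a} ha i j => by simpa using (ha (a⁻¹ i) (a⁻¹ j)).symm

instance bdBlk (σ : S9) {a : ℕ} [h1 : PV σ a] : BD (σ ∈ Blk)
    (force a fun a => allLT 9 fun i => allLT 9 fun j => Nat.beq
      (ite' (Nat.beq (Nat.div (ap a i) 3) (Nat.div (ap a j) 3)) 1 0)
      (ite' (Nat.beq (Nat.div i 3) (Nat.div j 3)) 1 0)) := ⟨by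
  have k : ∀ b c : Bool, Nat.beq (ite' b 1 0) (ite' c 1 0) = true ↔ (b = true ↔ c = true) := by
    decide
  simp only [force_eq, allLT_iff, k, beq_iff, h1.h]
  exact ⟨fun e i j => by rw [← ap_enc, ← ap_enc]; exact e i i.2 j j.2, fun e i hi j hj => by
    have := e ⟨i, hi⟩ ⟨j, hj⟩
    rwa [← ap_enc, ← ap_enc] at this⟩⟩

/-- the block stabilizer in `A₉` -/
def H9 : Subgroup S9 := Al ⊓ Blk

instance bdH9 (σ : S9) {b : Bool} [h : BD (σ ∈ Al ⊓ Blk) b] : BD (σ ∈ H9) b := h

def hT : ℕ := 0x876543210876543102876543021876534201876534120876534012876453201876453120876453012876435210876435102876435021876354210876354102876354021876345201876345120876345012876210534876210453876210345876201543876201435876201354876120543876120435876120354876102534876102453876102345876021534876021453876021345876012543876012435876012354867543201867543120867543012867534210867534102867534021867453210867453102867453021867435201867435120867435012867354201867354120867354012867345210867345102867345021867210543867210435867210354867201534867201453867201345867120534867120453867120345867102543867102435867102354867021543867021435867021354867012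53486701245386701234578654320178654312078654301278653421078653410278653402178645321078645310278645302178643520178643512078643501278635420178635412078635401278634521078634510278634502178621054378621043578621035478620153478620145378620134578612053478612045378612034578610254378610243578610235478602154378602143578602135478601253478601245378601234576854321076854310276854302176853420176853412076853401276845320176845312076845301276843521076843510276843502176835421076835410276835402176834520176834512076834501276821053476821045376821034576820154376820143576820135476812054376812043576812035476810253476810245376810234576802153476802145376802134576801254376801243576801235468754321068754310268754302168753420168753412068753401268745320168745312068745301268743521068743510268743502168735421068735410268735402168734520168734512068734501268721053468721045368721034568720154368720143568720135468712054368712043568712035468710253468710245368710234568702153468702145368702134568701254368701243568701235467854320167854312067854301267853421067853410267853402167845321067845310267845302167843520167843512067843501267835420167835412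06783540126783452106783451026783450216782105436782104356782103546782015346782014536782013456781205346781204536781203456781025436781024356781023546780215436780214356780213546780125346780124536780123455438762015438761205438760125438672105438671025438670215437862105437861025437860215437682015437681205437680125436872015436871205436870125436782105436781025436780215432108765432107685432106875432018675432017865432016785431208675431207865431206785431028765431027685431026875430218765430217685430216875430128675430127865430126785348762105348761025348760215348672015348671205348670125347862015347861205347860125347682105347681025347680215346872105346871025346870215346782015346781205346780125342108675342107865342106785342018765342017685342016875341208765341207685341206875341028675341027865341026785340218675340217865340216785340128765340127685340126874538762104538761024538760214538672014538671204538670124537862014537861204537860124537682104537681024537680214536872104536871024536870214536782014536781204536780124532108674532107864532106784532018764532017684532016874531208764531207684531206874531028674531027864531026784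53021867453021786453021678453012876453012768453012687435876201435876120435876012435867210435867102435867021435786210435786102435786021435768201435768120435768012435687201435687120435687012435678210435678102435678021435210876435210768435210687435201867435201786435201678435120867435120786435120678435102876435102768435102687435021876435021768435021687435012867435012786435012678354876201354876120354876012354867210354867102354867021354786210354786102354786021354768201354768120354768012354687201354687120354687012354678210354678102354678021354210876354210768354210687354201867354201786354201678354120867354120786354120678354102876354102768354102687354021876354021768354021687354012867354012786354012678345876210345876102345876021345867201345867120345867012345786201345786120345786012345768210345768102345768021345687210345687102345687021345678201345678120345678012345210867345210786345210678345201876345201768345201687345120876345120768345120687345102867345102786345102678345021867345021786345021678345012876345012768345012687210876543210876435210876354210867534210867453210867345210786534210786453210786345210768543210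76843521076835421068754321068743521068735421067853421067845321067834521054386721054378621054367821053487621053476821053468721045387621045376821045368721043586721043578621043567821035486721035478621035467821034587621034576821034568720187653420187645320187634520186754320186743520186735420178654320178643520178635420176853420176845320176834520168753420168745320168734520167854320167843520167835420154387620154376820154368720153486720153478620153467820145386720145378620145367820143587620143576820143568720135487620135476820135468720134586720134578620134567812087653412087645312087634512086754312086743512086735412078654312078643512078635412076853412076845312076834512068753412068745312068734512067854312067843512067835412054387612054376812054368712053486712053478612053467812045386712045378612045367812043587612043576812043568712035487612035476812035468712034586712034578612034567810287654310287643510287635410286753410286745310286734510278653410278645310278634510276854310276843510276835410268754310268743510268735410267853410267845310267834510254386710254378610254367810253487610253476810253468710245387610245376810245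3687102435867102435786102435678102354867102354786102354678102345876102345768102345687021876543021876435021876354021867534021867453021867345021786534021786453021786345021768543021768435021768354021687543021687435021687354021678534021678453021678345021543867021543786021543678021534876021534768021534687021453876021453768021453687021435867021435786021435678021354867021354786021354678021345876021345768021345687012876534012876453012876345012867543012867435012867354012786543012786435012786354012768534012768453012768345012687534012687453012687345012678543012678435012678354012543876012543768012543687012534867012534786012534678012453867012453786012453678012435876012435768012435687012354876012354768012354687012345867012345786012345678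

noncomputable def cd (i : ℕ) : ℕ :=
  Nat.land (Nat.shiftRight hT (Nat.mul 36 (Nat.mod i 648))) 0xFFFFFFFFF

theorem cd_mod (i : ℕ) : cd (i % 648) = cd i := by
  unfold cd
  rw [show Nat.mod (i % 648) 648 = Nat.mod i 648 from Nat.mod_mod _ _]

theorem cd_valid (i : ℕ) : validB 9 (cd i) = true :=
  cd_mod i ▸ (allB_iff 648 fun i => validB 9 (cd i)).1 (by decide +kernel) _
    (Nat.mod_lt _ (by norm_num))

theorem p9_congr {c d : ℕ} (e : c = d) (h : validB 9 c = true) (h' : validB 9 d = true) :
    p9 c h = p9 d h' := by subst e; rfl

set_option synthInstance.checkSynthOrder false in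
instance bdLT (n : ℕ) {p : ℕ → Prop} {f : ℕ → Bool} [h : ∀ i, BD (p i) (f i)] :
    BD (∀ i, i < n → p i) (allB n f) :=
  ⟨by rw [allB_iff]; exact forall₂_congr fun i _ => (h i).h⟩

theorem cd_mem (i : ℕ) : p9 (cd i) (cd_valid i) ∈ H9 :=
  p9_congr (cd_mod i) (cd_valid _) (cd_valid i) ▸
    (show ∀ i, i < 648 → p9 (cd i) (cd_valid i) ∈ H9 from pd!) _ (Nat.mod_lt _ (by norm_num))

/-- enumeration of `H9` -/
noncomputable def elt (i : ℕ) : H9 := ⟨p9 (cd i) (cd_valid i), cd_mem i⟩

instance pv_elt (i : ℕ) : PV (elt i).1 (cd i) := pv_p9 _ (cd_valid i)

noncomputable def okB (k c : ℕ) : Bool :=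
  Nat.beq (Nat.div (ap c k) 3) (Nat.div (ap c (Nat.mul (Nat.div k 3) 3)) 3)

theorem okB_of {σ : S9} {k : ℕ} (hk : k < 9)
    (h : (σ ⟨k, hk⟩).val / 3 = (σ ⟨k / 3 * 3, by omega⟩).val / 3) :
    okB k (mkc (k + 1) (val σ)) = true := by
  have e : k / 3 * 3 < k + 1 := by omega
  rw [okB, beq_iff, ap_mkc (fun j _ => val_lt σ j) (Nat.lt_succ_self k)]
  change _ = ap _ (k / 3 * 3) / 3
  rw [ap_mkc (fun j _ => val_lt σ j) e, show k = ((⟨k, hk⟩ : Fin 9) : ℕ) from rfl, val_fin]
  have := val_fin σ ⟨k / 3 * 3, by omega⟩
  simp only at this ⊢
  rw [this]
  exact h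

instance bdAny (σ : S9) {a : ℕ} [h1 : PV σ a] : BD (∃ i < 648, (elt i).1 = σ)
    (force a fun a => anyLT 648 fun i => Nat.beq (cd i) a) := ⟨by
  rw [force_eq, anyLT_iff]
  exact exists_congr fun i => and_congr_right fun _ => (bdEq _ _).h⟩

theorem elt_surj (σ : H9) : ∃ i < 648, elt i = σ := by
  obtain ⟨i, hi, e⟩ := forall_ok (p := fun σ : S9 => σ ∈ Al → ∃ i < 648, (elt i).1 = σ) okB
    (by decide +kernel) σ.1 (fun _ hk => okB_of hk ((σ.2.2 _ _).2 (by simp))) σ.2.1
  exact ⟨i, hi, Subtype.ext e⟩

theorem elt_inj {i j : ℕ} (hi : i < 648) (hj : j < 648) (e : elt i = elt j) : i = j := by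
  have h := (allB_iff 647 fun i => Nat.blt (cd i) (cd (Nat.succ i))).1 (by decide +kernel)
  have h2 : StrictMonoOn cd (Set.Iio 648) := by
    rw [show Set.Iio 648 = Set.Iic 647 from by ext; simp [Nat.lt_succ_iff]]
    exact strictMonoOn_Iic_of_lt_succ fun m hm => (blt_iff ..).1 (h m hm)
  exact h2.injOn hi hj ((pv_elt i).h.trans (e ▸ (pv_elt j).h.symm))

set_option synthInstance.checkSynthOrder false in
instance (priority := 30000) bdH {p : H9 → Prop} {f : ℕ → Bool} [h : ∀ i, BD (p (elt i)) (f i)] :
    BD (∀ σ, p σ) (allB 648 f) := ⟨by
  rw [allB_iff]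
  exact ⟨fun e σ => by obtain ⟨i, hi, rfl⟩ := elt_surj σ; exact (h i).h.1 (e i hi),
    fun e i _ => (h i).h.2 (e _)⟩⟩

theorem card_H {p : H9 → Prop} {f : ℕ → Bool} [h : ∀ i, BD (p (elt i)) (f i)] {n : ℕ}
    (e : Nat.beq (cntLT 648 f) n = true) : Nat.card {σ // p σ} = n := by
  rw [← (beq_iff ..).1 e, cntLT_eq, ← Nat.card_eq_finsetCard]
  refine (Nat.card_eq_of_bijective (fun i => ⟨elt i, (h _).h.1 (Finset.mem_filter.1 i.2).2⟩)
    ⟨fun i j e => Subtype.ext (elt_inj (Finset.mem_range.1 (Finset.mem_filter.1 i.2).1)
      (Finset.mem_range.1 (Finset.mem_filter.1 j.2).1) (congrArg Subtype.val e)), ?_⟩).symm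
  rintro ⟨σ, hσ⟩
  obtain ⟨i, hi, rfl⟩ := elt_surj σ
  exact ⟨⟨i, Finset.mem_filter.2 ⟨Finset.mem_range.2 hi, (h _).h.2 hσ⟩⟩, rfl⟩

theorem card_H9 : Nat.card H9 = 648 := by
  rw [← card_H (p := fun _ => True) (n := 648) (by decide +kernel)]
  exact (Nat.card_congr (Equiv.subtypeUnivEquiv fun _ => trivial)).symm

section Gen
variable {K : Type} [Group K] {x t : K} {b c : Bool}

instance bdCent [h : BD (Commute x t) b] : BD (x ∈ centralizer ({t} : Set K)) b :=
  ⟨h.h.trans mem_cent.symm⟩

instance (priority := low) bdInf' (A B : Subgroup K) [BD (x ∈ A) b] [BD (x ∈ B) c] :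
    BD (x ∈ A ⊓ B) (and' b c) := BD.instAnd

instance bdCoe (A : Subgroup K) [h : BD (x ∈ A) b] : BD (x ∈ (A : Set K)) b := h

end Gen

/-- element of a subgroup by its code -/
noncomputable def el (L : Subgroup S9) (c : ℕ) (h : validB 9 c = true := by decide +kernel)
    (h' : p9 c h ∈ L := by exact Cfsg.Agent.Loc3.BD.of (by decide +kernel)) : L := ⟨p9 c h, h'⟩

instance pv_el (L : Subgroup S9) (c : ℕ) (h : validB 9 c = true) (h' : p9 c h ∈ L) :
    PV (el L c h h').1 c := pv_p9 c h

noncomputable section
abbrev a1 : H9 := el H9 0x876543021
abbrev a2 : H9 := el H9 0x876354210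
abbrev a3 : H9 := el H9 0x687543210
abbrev c0 : H9 := el H9 0x687354021
abbrev b0 : H9 := el H9 0x876354021
abbrev x0 : H9 := el H9 0x210876543
abbrev s0 : H9 := el H9 0x867210543
abbrev τ0 : H9 := el H9 0x876534201
abbrev w0 : H9 := el H9 0x543876201
end

noncomputable def J9 : Subgroup H9 := centralizer {a1} ⊓ centralizer {a2}
instance bdJ9 (σ : H9) {b : Bool} [h : BD (σ ∈ centralizer {a1} ⊓ centralizer {a2}) b] :
    BD (σ ∈ J9) b := h

theorem card_J9 : Nat.card J9 = 27 := card_H (p := (· ∈ J9)) (by decide +kernel)

noncomputable def T9 : Subgroup H9 := centralizer {c0}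
instance bdT9 (σ : H9) {b : Bool} [h : BD (σ ∈ centralizer {c0}) b] : BD (σ ∈ T9) b := h

theorem card_T9 : Nat.card T9 = 81 := card_H (p := (· ∈ T9)) (by decide +kernel)

theorem J9_le : J9 ≤ T9 := (show ∀ x : H9, x ∈ J9 → x ∈ T9 from pd!)

theorem J9_cube : ∀ x : H9, x ∈ J9 → x ^ 3 = 1 := pd!

theorem J9_word : ∀ x : H9, x ∈ J9 → ∃ i ∈ [1, a1, a1⁻¹], ∃ j ∈ [1, a2, a2⁻¹], ∃ k ∈ [1, a3, a3⁻¹],
    x = i * j * k := pd!

theorem J9_comm : ∀ x : H9, x ∈ J9 → ∀ y : H9, y ∈ J9 → Commute x y := pd!

instance J9_normal : J9.Normal :=
  ⟨(show ∀ x : H9, x ∈ J9 → ∀ g : H9, g * x * g⁻¹ ∈ J9 from pd!)⟩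

/-- classes of elements of order three -/
theorem cube_H : ∀ x : H9, x ^ 3 = 1 →
    x = 1 ∨ IsConj a1 x ∨ IsConj b0 x ∨ IsConj c0 x ∨ IsConj x0 x := pd!

theorem eq_J9 {U : Subgroup H9} (h : 27 ≤ Nat.card U) (h3 : ∀ x ∈ U, x ^ 3 = 1)
    (hc : ∀ x ∈ U, ∀ y ∈ U, Commute x y) : U = J9 := by
  refine eq_of_le_of_card_ge (fun x hx => ?_) (card_J9 ▸ h)
  have k : ∀ y ∈ J9, IsConj y x → x ∈ J9 := fun y hy e => by
    obtain ⟨g, rfl⟩ := isConj_iff.1 e
    exact J9_normal.conj_mem y hy g
  rcases cube_H x (h3 x hx) with rfl | e | e | e | e
  exacts [one_mem _, k _ pd! e, k _ pd! e, k _ pd! e, by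
    have := card_le_of_le (show U ≤ centralizer {x} from fun y hy => mem_cent.2 (hc y hy x hx))
    rw [← card_cent_of_isConj e, show Nat.card (centralizer {x0}) = 9 from
      card_H (p := (· ∈ centralizer {x0})) (by decide +kernel)] at this
    omega]

theorem J0_eq : Subgroup.closure {swap (0 : Fin 9) 1 * swap 1 2, swap (3 : Fin 9) 4 * swap 4 5,
    swap (6 : Fin 9) 7 * swap 7 8} = J9.map H9.subtype := by
  rw [show swap (0 : Fin 9) 1 * swap 1 2 = a1.1 from pd!,
    show swap (3 : Fin 9) 4 * swap 4 5 = a2.1 from pd!,
    show swap (6 : Fin 9) 7 * swap 7 8 = a3.1 from pd!]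
  refine le_antisymm ((closure_le _).2 ?_) ?_
  · rintro _ (rfl | rfl | rfl)
    exacts [⟨a1, pd!, rfl⟩, ⟨a2, pd!, rfl⟩, ⟨a3, pd!, rfl⟩]
  · rintro _ ⟨x, hx, rfl⟩
    obtain ⟨i, hi, j, hj, k, hk, rfl⟩ := J9_word x hx
    have m : ∀ a : H9, a.1 ∈ ({a1.1, a2.1, a3.1} : Set S9) → ∀ i ∈ [1, a, a⁻¹],
        i.1 ∈ Subgroup.closure ({a1.1, a2.1, a3.1} : Set S9) := fun a ha i hi => by
      simp only [List.mem_cons, List.not_mem_nil, or_false] at hi
      rcases hi with rfl | rfl | rfl
      exacts [one_mem _, Subgroup.subset_closure ha, inv_mem (Subgroup.subset_closure ha)]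
    exact mul_mem (mul_mem (m a1 (by simp) i hi) (m a2 (by simp) j hj)) (m a3 (by simp) k hk)

theorem norm_J0 : Al ⊓ normalizer ((J9.map H9.subtype : Subgroup S9) : Set S9) = H9 := by
  refine le_antisymm (fun σ hσ => ⟨hσ.1, ?_⟩)
    (le_inf inf_le_left (PLocal.Amb.le_normalizer_map_subtype J9))
  obtain ⟨t, ht, e⟩ := PLocal.Amb.conj_mem_of_mem_normalizer hσ.2 (x := a1.1) ⟨a1, pd!, rfl⟩
  obtain ⟨u, hu, e'⟩ := PLocal.Amb.conj_mem_of_mem_normalizer hσ.2 (x := a2.1) ⟨a2, pd!, rfl⟩
  have k : ∀ t : H9, t ∈ J9 → ∀ i, (t.1 i).val / 3 = i.val / 3 := fun t ht i => by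
    have := (show ∀ t : H9, t ∈ J9 → t.1 ∈ Col 9 0x222111000 from pd!) t ht i
    rwa [(by decide +kernel : ∀ i : Fin 9, ap 0x222111000 i = i / 3),
      (by decide +kernel : ∀ i : Fin 9, ap 0x222111000 i = i / 3)] at this
  have k1 : ∀ i, (σ (a1.1 i)).val / 3 = (σ i).val / 3 := fun i => by
    simpa [show t.1 = _ from e] using k t ht (σ i)
  have k2 : ∀ i, (σ (a2.1 i)).val / 3 = (σ i).val / 3 := fun i => by
    simpa [show u.1 = _ from e'] using k u hu (σ i)
  have h0 := k1 0
  have h1 := k1 1
  have h3 := k2 3
  have h4 := k2 4
  rw [show a1.1 0 = 1 from pd!] at h0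
  rw [show a1.1 1 = 2 from pd!] at h1
  rw [show a2.1 3 = 4 from pd!] at h3
  rw [show a2.1 4 = 5 from pd!] at h4
  refine forall_ok (p := (· ∈ Blk)) (fun k c => or' (Nat.ble 6 k) (okB k c)) (by decide +kernel) σ
    fun k hk => (or'_eq_true ..).2 ?_
  by_cases h6 : 6 ≤ k
  · exact Or.inl ((ble_iff ..).2 h6)
  · refine Or.inr (okB_of hk ?_)
    have : k < 6 := by omega
    interval_cases k
    exacts [rfl, h0, h1.trans h0, rfl, h3, h4.trans h3]

end Cfsg.Agent.A9
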