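import Cfsg.Agent.A9.Model
import Cfsg.Agent.Loc3.PrT
import Cfsg.Agent.S0117

/-!
A group whose normalizer of a subgroup `3³` is the block stabilizer of `A₉`: local structure.
-/

set_option autoImplicit false
set_option synthInstance.maxSize 100000

namespace Cfsg.Agent.A9

open Subgroup Cfsg Cfsg.Agent.PLocal.Amb Cfsg.Agent.Loc3

universe u

variable {G : Type u} [Group G] [Finite G]

theorem cq_core {X : Type*} [Group X] [Finite X] {s : G} {π : G → X} (h : CQ s π) (s3 : s ^ 3 = 1)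
    (s1 : s ≠ 1) (hc : Op' 3 (centralizer {s}) = ⊥) : Op' 3 (⊤ : Subgroup X) = ⊥ := by
  have hK := coprime_Op' 3 (⊤ : Subgroup X)
  have hn := le_norm_Op' 3 (⊤ : Subgroup X)
  generalize Op' 3 (⊤ : Subgroup X) = K at hK hn
  have le : (K.comap h.hom).map (centralizer {s}).subtype ≤ centralizer {s} := map_subtype_le _
  have nm : centralizer {s} ≤ 𝐍[(K.comap h.hom).map (centralizer {s}).subtype] := fun p hp =>
    mem_normalizer_fintype (by
      rintro _ ⟨k, hk, rfl⟩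
      refine ⟨⟨p, hp⟩ * k * ⟨p, hp⟩⁻¹, ?_, rfl⟩
      rw [SetLike.mem_coe, mem_comap, map_mul, map_mul, map_inv]
      exact conj_mem_of_mem_normalizer (hn (mem_top _)) hk)
  have ms : s ∈ (K.comap h.hom).map (centralizer {s}).subtype :=
    ⟨⟨s, mem_cent.2 (Commute.refl s)⟩, by rw [SetLike.mem_coe, mem_comap, h.hom_apply, h.map_s]; simp,
      rfl⟩
  have n9 : ¬ 9 ∣ Nat.card ((K.comap h.hom).map (centralizer {s}).subtype) := fun d => by
    have h1 : h.hom.ker = (zpowers s).subgroupOf _ := by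
      ext g; exact h.ker (mem_cent.1 g.2)
    rw [card_subtype, Grp.card_comap_of_surjective _ h.hom_surj, h1, Nat.card_congr
      (subgroupOfEquivOfLe (zpowers_le.2 (mem_cent.2 (Commute.refl s)))).toEquiv,
      Nat.card_zpowers, orderOf_three s3 s1] at d
    have := (Nat.prime_three.coprime_iff_not_dvd).1 hK.symm
    omega
  refine eq_bot_iff.2 fun x hx => ?_
  obtain ⟨g, hg, rfl⟩ := h.surj x
  obtain ⟨o, ho, t, ht, e⟩ := burn_three s3 s1 ms n9 (fun g hg e => Pr.ne_inv3 s3 s1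
    ((conj_of_comm (mem_cent.1 (le hg))).symm.trans e)) (g := g) ⟨⟨g, mem_cent.2 hg⟩, hx, rfl⟩
  have := le_Op' ((Op'_le 3 _).trans le) (nm.trans (norm_le_norm_Op' 3 _)) (coprime_Op' 3 _) ho
  rw [hc, mem_bot] at this
  rw [this, one_mul] at e
  exact (h.ker hg).2 (e ▸ ht)

structure Base (φ : H9 →* G) : Prop where
  inj : Function.Injective φ
  nJ : 𝐍[J9.map φ] ≤ φ.range
  core : ∀ x : H9, x ^ 3 = 1 → x ≠ 1 → Op' 3 (centralizer {φ x}) = ⊥

section Hom
omit [Finite G]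
variable {A : Type*} [Group A] {φ : A →* G}

theorem hsq {x : A} (e : x * x = 1) : φ x * φ x = 1 := by rw [← map_mul, e, map_one]

theorem hpow {x : A} {n : ℕ} (e : x ^ n = 1) : φ x ^ n = 1 := by rw [← map_pow, e, map_one]

theorem hcj {k x y : A} (e : k * x * k⁻¹ = y) : φ k * φ x * (φ k)⁻¹ = φ y := by rw [← e]; simp

theorem hmul {x y z : A} (e : x * y = z) : φ x * φ y = φ z := by rw [← map_mul, e]

theorem hcomm (h : Function.Injective φ) {x y : A} (e : Commute (φ x) (φ y)) : Commute x y :=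
  h (by simpa using e.eq)

theorem hne1 (h : Function.Injective φ) {x : A} (e : x ≠ 1) : φ x ≠ 1 := by simpa using h.ne e

theorem hcj' (h : Function.Injective φ) {k x y : A} (e : φ k * φ x * (φ k)⁻¹ = φ y) :
    k * x * k⁻¹ = y := h (by simpa using e)

theorem hzp (h : Function.Injective φ) {a x : A} (a3 : a ^ 3 = 1) :
    φ x ∈ zpowers (φ a) ↔ x ∈ [1, a, a⁻¹] := by
  rw [← MonoidHom.map_zpowers, mem_map_iff_mem h, mem_zpowers_three a3]; simp

theorem rng (φ : A →* G) (x : A) : φ x ∈ φ.range := ⟨x, rfl⟩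

end Hom

namespace Base
variable {φ : H9 →* G} (h : Base φ)
include h

local notation "𝐉" => Subgroup.map φ J9
local notation "𝐓" => Subgroup.map φ T9

omit [Finite G] in
theorem mem_map {U : Subgroup H9} {x : H9} : φ x ∈ U.map φ ↔ x ∈ U := mem_map_iff_mem h.inj

omit [Finite G] h in
theorem J3 : ∀ x ∈ 𝐉, x ^ 3 = 1 := by
  rintro _ ⟨x, hx, rfl⟩; exact hpow (J9_cube x hx)

omit [Finite G] h in
theorem Jc : ∀ x ∈ 𝐉, ∀ y ∈ 𝐉, Commute x y := by
  rintro _ ⟨x, hx, rfl⟩ _ ⟨y, hy, rfl⟩; exact (J9_comm x hx y hy).map φ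

omit [Finite G] h in
theorem Jp : IsPGroup 3 𝐉 := isPGroup_iff.2 fun x hx => ⟨1, by simpa using J3 x hx⟩

omit [Finite G] h in
theorem J_le {j : H9} (hj : j ∈ J9) : 𝐉 ≤ centralizer {φ j} := fun x hx =>
  mem_cent.2 (Jc x hx _ ⟨j, hj, rfl⟩)

omit [Finite G] in
theorem card_map (U : Subgroup H9) : Nat.card (U.map φ) = Nat.card U :=
  card_map_of_injective h.inj

omit [Finite G] h in
theorem HJ (k : H9) : φ k ∈ 𝐍[𝐉] :=
  le_normalizer_map _ ⟨k, Pr.mem_nrm J9 k, rfl⟩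

omit [Finite G] in
theorem eq_J {U : Subgroup G} (hU : U ≤ φ.range) (hc : 27 ≤ Nat.card U) (h3 : ∀ x ∈ U, x ^ 3 = 1)
    (hm : ∀ x ∈ U, ∀ y ∈ U, Commute x y) : U = 𝐉 := by
  have e := map_comap_eq_self hU
  rw [← e, eq_J9 (U := U.comap φ) (by rwa [← h.card_map, e])
    (fun x hx => h.inj (by simpa using h3 _ hx)) fun x hx y hy => hcomm h.inj (hm _ hx _ hy)]

omit [Finite G] in
theorem wc {g : G} (hg : cj(g, 𝐉) ≤ φ.range) : g ∈ φ.range :=
  h.nJ (cj_eq_iff.1 (h.eq_J hg (by rw [card_cj, h.card_map, card_J9]) (fun x hx => by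
    obtain ⟨y, hy, rfl⟩ := mem_cj_iff_exists.1 hx
    rw [conj_pow, J3 y hy]; simp) fun x hx y hy => by
      simpa [mul_assoc] using Commute.cj (Jc _ (mem_cj.1 hx) _ (mem_cj.1 hy)) g))

theorem syl_of {U : Subgroup H9} {L : Subgroup G} (hU : IsPGroup 3 U) (hJ : J9 ≤ U)
    (hL : U.map φ ≤ L) (h4 : ∀ n : H9, φ n ∈ L → n ∈ 𝐍[U] → n ^ 4 ∈ U) :
    IsSyl 3 (U.map φ) L := by
  refine isSyl_of_isSyl_normalizer ⟨le_inf hL le_normalizer, hU.map φ, fun R hR _ hle r hr => ?_⟩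
  have hn := (hle hr).2
  obtain ⟨n, rfl⟩ := h.wc ((cj_le_of_mem_normalizer (map_mono hJ) hn).trans (map_le_range _ _))
  obtain ⟨k, hk⟩ := isPGroup_iff.1 hR _ hr
  refine mem_of_pow_mem_of_coprime (n := 4) (map_pow φ n 4 ▸ h.mem_map.2 (h4 n (hle hr).1
    (mem_normalizer_fintype fun x hx => h.mem_map.1 ?_))) (Nat.Coprime.coprime_dvd_left
      (orderOf_dvd_of_pow_eq_one hk) (Nat.Coprime.pow_left k (by norm_num)))
  simpa using conj_mem_of_mem_normalizer hn (h.mem_map.2 hx)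

theorem sylT : IsSyl 3 𝐓 ⊤ :=
  h.syl_of (IsPGroup.of_card (n := 4) card_T9) J9_le le_top fun n _ hn =>
    (show ∀ n : H9, n * x0 * n⁻¹ ∈ T9 → n ^ 4 ∈ T9 from pd!) n
      (conj_mem_of_mem_normalizer hn pd!)

theorem sylJ {j : H9} (hj : j ∈ J9) (h4 : ∀ n : H9, Commute n j → n ^ 4 ∈ J9) :
    IsSyl 3 𝐉 (centralizer {φ j}) :=
  h.syl_of (IsPGroup.of_card (n := 3) card_J9) le_rfl (J_le hj) fun n hn _ =>
    h4 n (hcomm h.inj (mem_cent.1 hn))

theorem sylA : IsSyl 3 𝐉 (centralizer {φ a1}) := h.sylJ pd! pd!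

theorem sylB : IsSyl 3 𝐉 (centralizer {φ b0}) := h.sylJ pd! pd!

theorem fusJ {x y : H9} (hx : x ∈ J9) (hy : y ∈ J9) (e : IsConj (φ x) (φ y)) : IsConj x y := by
  obtain ⟨g, hg⟩ := isConj_iff.1 e
  obtain ⟨T, hT, le⟩ := exists_isSyl_ge Jp (J_le (φ := φ) hy)
  obtain ⟨d, hd, e1⟩ := hT.exists_cj_le (isPGroup_cj g Jp) (by
    rw [← hg, centralizer_singleton_conj]; exact cj_mono g (J_le hx))
  obtain ⟨k, -, e2⟩ := h.sylT.exists_cj_le hT.pgrp le_top
  have e3 := e2.trans (map_le_range _ _)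
  have m1 := h.wc ((cj_mono k le).trans e3)
  have m2 := h.wc (g := k * (d * g)) (by rw [cj_mul, cj_mul]; exact (cj_mono k e1).trans e3)
  obtain ⟨n, hn⟩ := (mul_mem_cancel_left m1).1 m2
  refine isConj_iff.2 ⟨n, hcj' h.inj ?_⟩
  rw [hn, ← conj_of_comm (mem_cent.1 hd), ← hg]; group

theorem cC : centralizer {φ c0} = 𝐓 := by
  have le : 𝐓 ≤ centralizer {φ c0} := by
    rintro _ ⟨x, hx, rfl⟩; exact mem_cent.2 ((mem_cent.1 hx).map φ)
  have hc := h.core c0 pd! pd!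
  have hN : ∀ g ∈ centralizer {φ c0}, g ∈ 𝐍[𝐉] → g ∈ 𝐓 := fun g hg hn => by
    obtain ⟨k, rfl⟩ := h.nJ hn
    exact h.mem_map.2 (mem_cent.2 (hcomm h.inj (mem_cent.1 hg)))
  generalize centralizer {φ c0} = L at le hc hN
  obtain ⟨P, hP⟩ := (h.sylT.mono le le_top).exists_sylow
  let ι : P →* G := L.subtype.comp (P : Subgroup L).subtype
  have hι : Function.Injective ι := L.subtype_injective.comp (subtype_injective _)
  have r : ι.range = 𝐓 := by
    rw [MonoidHom.range_comp, range_subtype, hP, map_subgroupOf_of_le le]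
  have JT : 𝐉 ≤ ι.range := r ▸ map_mono J9_le
  have c27 : Nat.card (Subgroup.comap ι 𝐉) = 27 := by
    rw [← card_map_of_injective hι, map_comap_eq_self JT, h.card_map, card_J9]
  have el : IsElementaryAbelian 3 (Subgroup.comap ι 𝐉) :=
    ⟨⟨⟨fun a b => Subtype.ext (hcomm hι (Jc _ a.2 _ b.2))⟩⟩, fun a ha => hι (by
      rw [map_pow, map_one]; exact J3 _ ha)⟩
  have key : ∀ A : Subgroup P, IsElementaryAbelian 3 A → 27 ≤ Nat.card A →
      A = Subgroup.comap ι 𝐉 := fun A hA h27 => by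
    rw [← h.eq_J (U := A.map ι) ((map_le_range _ _).trans (r ▸ map_le_range _ _))
      (by rwa [card_map_of_injective hι]) (by rintro _ ⟨x, hx, rfl⟩; exact hpow (hA.2 x hx))
      (by
        rintro _ ⟨x, hx, rfl⟩ _ ⟨y, hy, rfl⟩
        exact Commute.map (congrArg Subtype.val (hA.1.is_comm.comm ⟨x, hx⟩ ⟨y, hy⟩)) ι),
      comap_map_eq_self_of_injective hι]
  have th : thompsonSubgroup 3 P = Subgroup.comap ι 𝐉 := by
    refine le_antisymm (sSup_le fun A hA => (key A hA.1 (c27 ▸ hA.2 _ el)).le)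
      (le_sSup ⟨el, fun B hB => ?_⟩)
    by_contra hn
    rw [key B hB (by omega)] at hn
    exact hn le_rfl
  have th2 : thompsonSubgroupOf 3 (P : Subgroup L) = 𝐉.subgroupOf L := by
    refine map_injective L.subtype_injective ?_
    rw [thompsonSubgroupOf, map_map, th, map_comap_eq_self JT,
      map_subgroupOf_of_le ((map_mono J9_le).trans le)]
  have th3 : centerThompsonOf 3 (P : Subgroup L) = 𝐉.subgroupOf L := by
    rw [centerThompsonOf, th2, inf_eq_left]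
    exact fun x hx => mem_centralizer_iff.2 fun y hy => Subtype.ext (Jc _ hy _ hx)
  obtain ⟨Q, N, hn, hq⟩ := (S0117.result (p := 3) (by norm_num) P).2
    (Transfer.hasNormalPComplement_of_isPGroup (P.isPGroup'.to_le (by
      rw [th3, ← subgroupOf_normalizer_eq ((map_mono J9_le).trans le), hP]
      exact fun x hx => hN x x.2 hx)))
  have hb : N = ⊥ := by
    have : N ≤ pPrimeCore 3 L := Grp.le_pPrimeCore hn (by
      rw [← hq.index_eq_card]
      exact ((Nat.Prime.coprime_iff_not_dvd Nat.prime_three).2 Q.not_dvd_index).symm)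
    rw [(map_eq_bot_iff_of_injective _ L.subtype_injective).1 hc] at this
    exact le_bot_iff.1 this
  have hQ : (Q : Subgroup L) = ⊤ := by simpa [hb] using hq.sup_eq_top
  exact h.sylT.eq (by
    have := Q.isPGroup'
    rw [hQ] at this
    exact this.of_equiv topEquiv) le le_top

theorem cc {g : G} (e : Commute g (φ c0)) : g ∈ φ.range :=
  map_le_range _ _ (h.cC ▸ mem_cent.2 e)

theorem cb {g : G} (e : Commute g (φ b0)) : g ∈ φ.range := by
  obtain ⟨X, _, _, π, q⟩ := exists_CQ (φ b0)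
  have c : ∀ p ∈ 𝐉, Commute p (φ b0) := fun p hp => Jc p hp _ ⟨b0, pd!, rfl⟩
  have b3 : φ b0 ^ 3 = 1 := hpow pd!
  have mb : φ b0 ∈ 𝐉 := ⟨b0, pd!, rfl⟩
  have nrm : ∀ g, Commute g (φ b0) → π g ∈ 𝐍[q.im 𝐉] → g ∈ φ.range := fun g hg a =>
    h.nJ (mem_normalizer_fintype fun p hp => q.mem_of_mem_im mb
      ((hg.mul_left (c p hp)).mul_left hg.inv_left) (by
        rw [q.map_conj hg (c p hp)]
        exact conj_mem_of_mem_normalizer a (q.mem_im_of hp (c p hp))))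
  have inv : ∀ k : H9, Commute k b0 → (∀ j : H9, j ∈ J9 → j * (k * j * k⁻¹) ∈ [1, b0, b0⁻¹]) →
      ∀ x ∈ q.im 𝐉, π (φ k) * x * (π (φ k))⁻¹ = x⁻¹ := fun k kb e x hx => by
    obtain ⟨_, ⟨j, hj, rfl⟩, d, rfl⟩ := q.mem_im.1 hx
    rw [← q.map_conj (kb.map φ) d, ← q.map_inv d, q.eq_iff
      (((kb.map φ).mul_left d).mul_left (kb.map φ).inv_left) d.inv_left, inv_inv,
      hcj rfl, ← map_mul, hzp h.inj pd!]
    exact e j hj
  have sy : IsSyl 3 (q.im 𝐉) ⊤ := by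
    obtain ⟨P, hP⟩ := h.sylB.exists_sylow
    have := (isSyl_top P).map q.hom
    rwa [hP, ← MonoidHom.range_eq_map, MonoidHom.range_eq_top.2 q.hom_surj] at this
  refine (Pr.inv_core sy (fun x hx y hy => by
      obtain ⟨x, hx', cx, rfl⟩ := q.mem_im.1 hx
      obtain ⟨y, hy', cy, rfl⟩ := q.mem_im.1 hy
      change _ = _
      rw [← q.mul cx cy, ← q.mul cy cx, (Jc x hx' y hy').eq]) (fun cyc => ?_) (fun n _ hn => ?_)
    (mem_top (π (φ s0))) (inv s0 pd! pd!) (mem_top (π g))).elim fun o ⟨ho, n, hn, e1⟩ => ?_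
  rotate_left 2
  · rw [cq_core q b3 (hne1 h.inj pd!) (h.core b0 pd! pd!), mem_bot] at ho
    exact nrm g e (by rwa [e1, ho, one_mul])
  · have m : ∀ j : H9, j ∈ J9 → π (φ j) ∈ q.im 𝐉 := fun j hj =>
      q.mem_im_of ⟨j, hj, rfl⟩ (c _ ⟨j, hj, rfl⟩)
    have p3 : ∀ j : H9, j ∈ J9 → π (φ j) ^ 3 = 1 := fun j hj => by
      rw [← q.map_pow (c _ ⟨j, hj, rfl⟩), hpow (J9_cube j hj), q.map_one]
    have ne : ∀ i j : H9, i ∈ J9 → j ∈ J9 → j⁻¹ * i ∉ [1, b0, b0⁻¹] → π (φ i) ≠ π (φ j) :=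
      fun i j hi hj e d => e (by
        rwa [q.eq_iff (c _ ⟨i, hi, rfl⟩) (c _ ⟨j, hj, rfl⟩), ← map_inv, ← map_mul,
          hzp h.inj pd!] at d)
    refine not_cyclic_pair (p3 a1 pd!) (p3 a3 pd!) ?_ ?_ ?_ (isCyclic_of_le (H' := q.im 𝐉)
      ((closure_le _).2 (by rintro _ (rfl | rfl); exacts [m a1 pd!, m a3 pd!])))
    · change _ = _
      rw [← q.mul (c _ ⟨a1, pd!, rfl⟩) (c _ ⟨a3, pd!, rfl⟩), ← q.mul (c _ ⟨a3, pd!, rfl⟩)
        (c _ ⟨a1, pd!, rfl⟩), ((show Commute a1 a3 from pd!).map φ).eq]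
    · simpa [q.map_one] using ne a3 1 pd! pd! pd!
    · rw [mem_zpowers_three (p3 a3 pd!), ← q.map_inv (c _ ⟨a3, pd!, rfl⟩), ← map_inv,
        ← q.map_one, ← φ.map_one]
      rintro (e | e | e)
      exacts [ne a1 1 pd! pd! pd! e, ne a1 a3 pd! pd! pd! e, ne a1 a3⁻¹ pd! pd! pd! e]
  · obtain ⟨n, cn, rfl⟩ := q.surj n
    obtain ⟨k, rfl⟩ := nrm n cn hn
    rcases (show ∀ k : H9, Commute k b0 → k ∈ J9 ∨ ∀ j : H9, j ∈ J9 →
      j * (k * j * k⁻¹) ∈ [1, b0, b0⁻¹] from pd!) k (hcomm h.inj cn) with e | e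
    · refine Or.inl fun x hx => ?_
      obtain ⟨x, hx', cx, rfl⟩ := q.mem_im.1 hx
      rw [← q.map_conj cn cx, conj_of_comm (Jc _ ⟨k, e, rfl⟩ x hx')]
    · exact Or.inr (inv k (hcomm h.inj cn) e)

theorem nx {j : H9} (hj : j ∈ J9) (sy : IsSyl 3 𝐉 (centralizer {φ j})) :
    ¬ IsConj (φ j) (φ x0) := fun e => by
  obtain ⟨g, hg⟩ := isConj_iff.1 e
  have := sy.cj g
  rw [← centralizer_singleton_conj, hg] at this
  obtain ⟨d, hd, e1⟩ := this.exists_cj_le (R := zpowers (φ c0))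
    (isPGroup_zpowers ⟨1, by simpa using hpow pd!⟩)
    (zpowers_le.2 (mem_cent.2 ((show Commute c0 x0 from pd!).map φ)))
  have e2 := mem_cj.1 (e1 (conj_mem_cj d (mem_zpowers _)))
  obtain ⟨k, hk⟩ := h.wc (g := d⁻¹ * g) fun x hx => h.cc (by
    simpa [mul_assoc] using Commute.cj (Jc _ (mem_cj.1 hx) _ e2) (d⁻¹ * g))
  have : k * j * k⁻¹ = x0 := hcj' h.inj (by
    rw [hk, ← conj_of_comm (mem_cent.1 hd).inv_left, ← hg]; group)
  exact absurd (this ▸ J9_normal.conj_mem j hj k) pd!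

/-- fusion of elements of `J` which are not 3-central -/
theorem fus {j y : H9} (hj : j ∈ J9) (j1 : j ≠ 1) (sy : IsSyl 3 𝐉 (centralizer {φ j}))
    (e : IsConj (φ j) (φ y)) : IsConj j y := by
  have k : ∀ t : H9, t ∈ J9 → IsConj t y → IsConj j y := fun t ht e1 =>
    (h.fusJ hj ht (e.trans (φ.map_isConj e1).symm)).trans e1
  rcases cube_H y (pow_of_isConj h.inj e (J9_cube j hj)) with rfl | e1 | e1 | e1 | e1
  exacts [absurd rfl (ne_one_of_isConj h.inj e j1), k _ pd! e1, k _ pd! e1, k _ pd! e1,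
    absurd (e.trans (φ.map_isConj e1).symm) (h.nx hj sy)]

theorem fusA {y : H9} (e : IsConj (φ a1) (φ y)) : IsConj a1 y := h.fus pd! pd! h.sylA e

theorem fusB {y : H9} (e : IsConj (φ b0) (φ y)) : IsConj b0 y := h.fus pd! pd! h.sylB e

theorem ufB : UF φ.range (φ b0) := UF.of_cent_hom (fun _ => h.cb) fun _ => h.fusB

theorem nab : ¬ IsConj (φ a1) (φ b0) := fun e => absurd (h.fusA e) pd!

theorem nac : ¬ IsConj (φ a1) (φ c0) := fun e => absurd (h.fusA e) pd!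

theorem nbc : ¬ IsConj (φ b0) (φ c0) := fun e => absurd (h.fusB e) pd!

end Base

end Cfsg.Agent.A9
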